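import Groth.Agent.CohqB.AmpThick2
import Groth.Agent.CohqB.AmpBridge
import Groth.Agent.CohqB.AmpRefine
import Groth.Agent.PerfB.FreeRank
import Groth.Agent.PerfC.PullRestrict
import Groth.Agent.Ega2.QCohLocal
import Groth.Prelude.Def_KSix

/-!
# Ample families on thickenings: pointwise lifting of sections with affine locus
-/

set_option autoImplicit false
universe u v
open CategoryTheory AlgebraicGeometry TopologicalSpace

namespace K783.AmpLift

open Groth.Agent Groth.Agent.CohqB.AmpCocycle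

variable {X Z : Scheme.{u}} {ι : Type v}

/-- `c` is ample at `x`. -/
def AmpleAt (c : Coc X ι) (x : X) : Prop :=
  ∃ (n : ℕ) (f : ∀ i, Γ(X, c.W i)), c.IsSec (n + 1) f ∧ x ∈ c.locus f ∧ IsAffineOpen (c.locus f)

theorem AmpleAt.exists_locus_le {c : Coc X ι} {x : X} (hA : AmpleAt c x) (hc : c.Fin) (V : X.Opens) (hx : x ∈ V) :
    ∃ (n : ℕ) (f : ∀ i, Γ(X, c.W i)), c.IsSec (n + 1) f ∧ x ∈ c.locus f ∧
      IsAffineOpen (c.locus f) ∧ c.locus f ≤ V := by
  obtain ⟨n, f, hf, hxf, ha⟩ := hA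
  obtain ⟨a, haV, hxa⟩ := ha.exists_basicOpen_le (V := V) ⟨x, hx⟩ hxf
  obtain ⟨N, g, hg, hgl⟩ := hc.exists_locus_eq_basicOpen hf a
  refine ⟨n + (n + 1) * N, g, ?_, ?_, ?_, ?_⟩
  · convert hg using 1
    ring
  · rw [hgl]; exact hxa
  · rw [hgl]; exact ha.basicOpen a
  · rw [hgl]; exact haV

theorem ampleAt_of_pull_closedImmersion [Finite ι] [IsNoetherian X] [IsNoetherian Z] {c : Coc X ι}
    (ha : ∀ i, IsAffineOpen (c.W i)) (i : Z ⟶ X) [IsClosedImmersion i]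
    (hs : Function.Surjective i) (z : Z) (hA : AmpleAt (c.pull i) z) : AmpleAt c (i z) := by
  have hc : c.Fin := Coc.fin_of_isNoetherian ha
  have hcZ : (c.pull i).Fin := Coc.fin_of_isNoetherian fun k => (ha k).preimage i
  obtain ⟨j₀, hj₀⟩ := c.cov (i z)
  obtain ⟨n, s, hsec, hz, haff, hle⟩ := hA.exists_locus_le hcZ (i ⁻¹ᵁ c.W j₀) hj₀
  choose f hf using fun k => Scheme.Hom.app_surjective i (c.W k) (ha k) (s k)
  have hfs : Coc.plSec i f = s := by
    funext k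
    exact (pl_eq_app i (c.W k) (f k)).trans (hf k)
  have hmod : c.IsSecMod i.ker (n + 1) f := by
    intro k l V hk hl U hU
    rw [Scheme.Hom.ker_apply, RingHom.mem_ker]
    change i.app U.1 _ = 0
    rw [← pl_eq_app]
    rw [map_sub, map_mul, map_pow, res_res, res_res, Coc.res_t, map_sub, map_mul, map_pow]
    rw [pl_res, pl_res, ← Coc.pull_t' c i k l (i ⁻¹ᵁ U.1) U.1 le_rfl (hU.trans hk) (hU.trans hl)
      (i.preimage_mono (hU.trans hk)) (i.preimage_mono (hU.trans hl))]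
    have hk' : i ⁻¹ᵁ U.1 ≤ (c.pull i).W k := i.preimage_mono (hU.trans hk)
    have hl' : i ⁻¹ᵁ U.1 ≤ (c.pull i).W l := i.preimage_mono (hU.trans hl)
    have key := hsec k l (i ⁻¹ᵁ U.1) hk' hl'
    rw [← hfs, Coc.res_plSec i f k _ hk', Coc.res_plSec i f l _ hl'] at key
    rw [sub_eq_zero]
    exact key
  have hloc : i ⁻¹ᵁ (c.locus f) = (c.pull i).locus s := by
    rw [← Coc.locus_plSec, hfs]
  have hlocle : c.locus f ≤ c.W j₀ := by
    intro y hy
    obtain ⟨w, rfl⟩ := hs y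
    have : w ∈ i ⁻¹ᵁ (c.locus f) := hy
    rw [hloc] at this
    exact hle this
  obtain ⟨N, hN⟩ := exists_ker_pow_eq_bot i hs
  obtain ⟨K, g, hK, hg, hgf⟩ := hc.exists_lift_of_nilpotent hN hmod j₀
    (fun k => (Coc.basicOpen_le_locus f k).trans hlocle)
  obtain ⟨m, hm⟩ : ∃ m, (n + 1) * K = m + 1 := ⟨(n + 1) * K - 1, by
    have : 0 < (n + 1) * K := Nat.mul_pos (Nat.succ_pos n) hK
    omega⟩
  rw [hm] at hg
  refine ⟨m, g, hg, ?_, ?_⟩
  · rw [hgf]
    change z ∈ i ⁻¹ᵁ (c.locus f)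
    rw [hloc]
    exact hz
  · rw [hg.locus_eq_of_le (hgf.le.trans hlocle)]
    exact (ha j₀).basicOpen _

/-- `L` is ample at `x`: some section of a positive power has an affine non-vanishing locus containing `x`. -/
def ModAmpleAt (L : X.Modules) (x : X) : Prop :=
  ∃ (n : ℕ) (s : Coh.structureModule X ⟶ CohB1.tensorPow L (n + 1)),
      x ∈ CohB1.genLocus _ s ∧ IsAffineOpen (CohB1.genLocus _ s)

theorem ampleAt_iff {L : X.Modules} {c : Coc X ι} (T : Triv L c) (x : X) : ModAmpleAt L x ↔ AmpleAt c x := by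
  constructor
  · rintro ⟨n, s, hx, ha⟩
    obtain ⟨f, hf, hs⟩ := T.exists_family (n + 1) s
    rw [T.genLocus_eq hf hs] at hx ha
    exact ⟨n, f, hf, hx, ha⟩
  · rintro ⟨n, f, hf, hx, ha⟩
    obtain ⟨s, hs⟩ := T.exists_section (n + 1) f hf
    refine ⟨n, s, ?_⟩
    rw [T.genLocus_eq hf hs]
    exact ⟨hx, ha⟩

theorem modAmpleAt_of_pullback [IsNoetherian X] [IsNoetherian Z] (i : Z ⟶ X) [IsClosedImmersion i]
    (hs : Function.Surjective i) {L : X.Modules} (hL : PicF.IsInvertible L) {L' : Z.Modules}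
    (e : (Scheme.Modules.pullback i).obj L ≅ L') (z : Z) (h : ModAmpleAt L' z) : ModAmpleAt L (i z) := by
  obtain ⟨n, c, ha, -, ⟨T⟩⟩ := exists_triv_affine L hL (fun _ : Unit => (⊤ : X.Opens)) (fun _ => ⟨(), trivial⟩)
  rw [ampleAt_iff T]
  rw [ampleAt_iff ((T.pullback i).ofIso e)] at h
  exact ampleAt_of_pull_closedImmersion ha i hs z h

/-- Rank one at a point, read off from a pullback. -/
theorem rank_eq_one_of_pullback {P T : Scheme.{u}} (π : P ⟶ T) {N : T.Modules}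
    (h : PicF.IsInvertible ((Scheme.Modules.pullback π).obj N)) (x : P) {U : T.Opens} (hx : π x ∈ U) {n : ℕ}
    (e : N.restrict U.ι ≅ FlatMod.freeMod U n) : n = 1 := by
  obtain ⟨W, hxW, ⟨e'⟩⟩ := Ega2.QCohLocal.isFinLocFreeOfRank_one_iff.2 h x
  have pull_free : ∀ {Z T : Scheme.{u}} (a : Z ⟶ T) (U : T.Opens) (_ : Set.range a ⊆ (U : Set T))
    {N : T.Modules} {n : ℕ} (_ : N.restrict U.ι ≅ FlatMod.freeMod U n),
    Nonempty ((Scheme.Modules.pullback a).obj N ≅ FlatMod.freeMod Z n) := by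
    intro Z T a U ha N n e
    let l : Z ⟶ U := IsOpenImmersion.lift U.ι a (by simpa using ha)
    have hl : l ≫ U.ι = a := IsOpenImmersion.lift_fac _ _ _
    exact ⟨(Scheme.Modules.pullbackCongr hl.symm).app N ≪≫ (Scheme.Modules.pullbackComp l U.ι).symm.app N ≪≫
      (Scheme.Modules.pullback l).mapIso (((Scheme.Modules.restrictFunctorIsoPullback U.ι).symm.app N) ≪≫ e) ≪≫
      PerfC.PullRestrict.pullbackFreeMod l n⟩
  let V : P.Opens := W ⊓ π ⁻¹ᵁ U
  have hx : x ∈ V := ⟨hxW, hx⟩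
  obtain ⟨e₁⟩ := pull_free (V.ι ≫ π) U (by
    rintro _ ⟨v, rfl⟩
    rw [Scheme.Hom.comp_apply]
    exact v.2.2) e
  obtain ⟨e₂⟩ := pull_free V.ι W (by
    rintro _ ⟨v, rfl⟩
    exact v.2.1) e'
  exact PerfB.FreeRank.rank_eq (⟨x, hx⟩ : V)
    (e₁.symm ≪≫ (Scheme.Modules.pullbackComp V.ι π).symm.app N ≪≫ e₂)

theorem isInvertible_of_pullback {P T : Scheme.{u}} (π : P ⟶ T) [Surjective π] {N : T.Modules}
    (hN : FlatMod.IsFinLocFree N) (h : PicF.IsInvertible ((Scheme.Modules.pullback π).obj N)) :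
    PicF.IsInvertible N := by
  refine Ega2.QCohLocal.isFinLocFreeOfRank_one_iff.1 fun y => ?_
  obtain ⟨x, rfl⟩ := π.surjective y
  obtain ⟨U, n, hx, ⟨e⟩⟩ := hN (π x)
  obtain rfl := rank_eq_one_of_pullback π h x hx e
  exact ⟨U, hx, ⟨e⟩⟩

theorem isInvertible_of_iso {L L' : X.Modules} (e : L ≅ L') (h : PicF.IsInvertible L) : PicF.IsInvertible L' := by
  intro x
  obtain ⟨U, hx, ⟨e'⟩⟩ := h x
  exact ⟨U, hx, ⟨(Scheme.Modules.restrictFunctor U.ι).mapIso e.symm ≪≫ e'⟩⟩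

theorem isFinLocFree_of_isInvertible {L : X.Modules} (hL : PicF.IsInvertible L) : FlatMod.IsFinLocFree L := by
  intro x
  obtain ⟨U, hx, e⟩ := Ega2.QCohLocal.isFinLocFreeOfRank_one_iff.2 hL x
  exact ⟨U, 1, hx, e⟩

end K783.AmpLift
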