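import Groth.Agent.ResProp.K783.EmbedGen
import Groth.Agent.EGA2.K36.SpecLocal
import Groth.Agent.PerfC.FTExt
import Groth.Agent.CohqB.FiniteType2

/-!
# Affine morphisms of finite type and vector bundles
-/

set_option autoImplicit false
universe u

open CategoryTheory CategoryTheory.Limits AlgebraicGeometry Opposite TopologicalSpace

namespace K783.EmbedFT

open K36.SymAlg K36.QCAlgAff K783.EmbedGen

variable {X : Scheme.{u}}

theorem locallyOfFiniteType_of_app {Y : Scheme.{u}} (f : Y ⟶ X) [IsAffineHom f]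
    (h : ∀ U : X.Opens, IsAffineOpen U → (f.app U).hom.FiniteType) : LocallyOfFiniteType f := by
  have h1 : LocallyOfFiniteType (RelSpec.QCAlg.directImage f).π := K36.SpecLocal.locallyOfFiniteType_π _ h
  obtain ⟨c, hc, e⟩ := SpecEmb.exists_closedImmersion (𝟙 (RelSpec.QCAlg.directImage f))
    (fun U : X.affineOpens => U.1) (fun U => U.2) (iSup_affineOpens_eq_top X) (fun U y => ⟨y, rfl⟩)
  rw [← e]
  infer_instance

theorem finiteType_inl {R M : Type u} [CommRing R] [AddCommGroup M] [Module R M] [Module.Finite R M] :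
    (TSZ.inl : R →+* TSZ.T R M).FiniteType := by
  apply RingHom.Finite.finiteType
  let _ := (TSZ.inl : R →+* TSZ.T R M).toAlgebra
  change Module.Finite R (TSZ.T R M)
  let g : R × M →ₗ[R] TSZ.T R M :=
    { toFun := fun x => ⟨x.1, x.2⟩
      map_add' := fun _ _ => rfl
      map_smul' := fun r x => (TSZ.inl_mul r ⟨x.1, x.2⟩).symm }
  exact Module.Finite.of_surjective g fun y => ⟨(y.fst, y.snd), rfl⟩

/-- The spectrum of `O ⊕ M` with `M` of finite type. -/
theorem exists_test (M : X.Modules) (hM : Coh.IsQCoh M) (hM' : CohB1.IsFT M) :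
    ∃ (Y : Scheme.{u}) (f : Y ⟶ X) (_ : IsAffineHom f) (_ : LocallyOfFiniteType f),
    ∀ (E : X.Modules) (_ : Coh.IsQCoh E) (B : RelSpec.QCAlg X) (φ : E ⟶ B.toModule) (_ : RelSpec.IsSymAlg E B φ)
      (c : Y ⟶ B.spec) (_ : IsClosedImmersion c) (_ : c ≫ B.π = f), ∃ v : E ⟶ M, Epi v := by
  obtain ⟨Y, f, hf, e, he, hres⟩ := TSZ.exists_tsz hM
  refine ⟨Y, f, hf, locallyOfFiniteType_of_app f fun U hU => ?_, fun E hE B φ hB c hc hcf => ?_⟩
  · have := hM
    have := Groth.Agent.CohqB.FiniteType2.finite_sections_of_isFT M hM' hU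
    have h1 : (f.app U).hom = (e U hU).symm.toRingHom.comp (TSZ.inl : Γ(X, U) →+* TSZ.T Γ(X, U) Γ(M, U)) := by
      refine RingHom.ext fun r => ?_
      apply (e U hU).injective
      exact (he U hU r).trans ((e U hU).apply_symm_apply _).symm
    rw [h1]
    exact RingHom.FiniteType.comp_surjective finiteType_inl (e U hU).symm.surjective
  obtain ⟨ψ, hψ⟩ := SpecEmb.exists_surjective c hcf
  have hstr : ∀ (U : X.Opens) (r : Γ(X, U)), (ψ.hom.app (op U)).hom ((B.str.app (op U)).hom r) =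
      ((RelSpec.QCAlg.directImage f).str.app (op U)).hom r := fun U r =>
    congr($(NatTrans.congr_app ψ.comm (op U)) r)
  obtain ⟨v, hv⟩ := exists_mod_hom (M := E) (N := M)
    (fun U hU => (TSZ.sndHom (R := Γ(X, U)) (M := Γ(M, U))).comp
      ((e U hU).toRingHom.toAddMonoidHom.comp ((ψ.hom.app (op U)).hom.toAddMonoidHom.comp (jApp E B φ U))))
    (fun U hU r m => by
      change (e U hU ((ψ.hom.app (op U)).hom (jApp E B φ U (r • m)))).snd =
        r • (e U hU ((ψ.hom.app (op U)).hom (jApp E B φ U m))).snd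
      rw [jApp_smul, map_mul, hstr, map_mul, he, TSZ.inl_mul])
    (fun U hU r m => by
      change (e (X.basicOpen r) (hU.basicOpen r) ((ψ.hom.app (op (X.basicOpen r))).hom
        (jApp E B φ (X.basicOpen r) (E.presheaf.map (homOfLE (X.basicOpen_le r)).op m)))).snd =
        M.presheaf.map (homOfLE (X.basicOpen_le r)).op (e U hU ((ψ.hom.app (op U)).hom (jApp E B φ U m))).snd
      rw [jApp_res, ← hres]
      have := congr($(ψ.hom.naturality (homOfLE (X.basicOpen_le r)).op) (jApp E B φ U m))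
      exact congrArg (fun z => (e (X.basicOpen r) (hU.basicOpen r) z).snd) this)
  refine ⟨v, Groth.Agent.FormalB.SysSect.epi_of_affine v fun U hU m => ?_⟩
  obtain ⟨y, hy⟩ := (e U hU).surjective ⟨0, m⟩
  obtain ⟨b, hb⟩ := hψ U hU y
  obtain ⟨x, hx⟩ := (bijective_symHom hE hB U hU).2 b
  have key : ∀ x : SymmetricAlgebra Γ(X, U) Γ(E, U),
      ∃ t : Γ(E, U), v.app U t = (e U hU ((ψ.hom.app (op U)).hom (symHom E B φ U x))).snd := by
    intro x
    induction x using SymmetricAlgebra.induction with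
    | algebraMap r => exact ⟨0, by rw [symHom_algebraMap, hstr, he, map_zero]; rfl⟩
    | ι m => exact ⟨m, by rw [symHom_ι, hv U hU m]; rfl⟩
    | mul a b ha hb =>
      obtain ⟨s, hs⟩ := ha
      obtain ⟨t, ht⟩ := hb
      refine ⟨(e U hU ((ψ.hom.app (op U)).hom (symHom E B φ U a))).fst • t +
        (e U hU ((ψ.hom.app (op U)).hom (symHom E B φ U b))).fst • s, ?_⟩
      rw [map_add, Scheme.Modules.Hom.app_smul, Scheme.Modules.Hom.app_smul, hs, ht, map_mul, map_mul, map_mul,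
        TSZ.snd_mul]
    | add a b ha hb =>
      obtain ⟨s, hs⟩ := ha
      obtain ⟨t, ht⟩ := hb
      refine ⟨s + t, ?_⟩
      rw [map_add, hs, ht, map_add, map_add, map_add, TSZ.snd_add]
  obtain ⟨t, ht⟩ := key x
  refine ⟨t, ?_⟩
  rw [ht, hx, hb, hy]

/-- Generators of an algebra of finite type over a finite affine open cover. -/
theorem exists_gens [CompactSpace X] (A : RelSpec.QCAlg X)
    (hft : ∀ U : X.Opens, IsAffineOpen U → (A.str.app (op U)).hom.FiniteType) :
    ∃ (ι : Type u) (_ : Finite ι) (U : ι → X.Opens) (_ : ∀ i, IsAffineOpen (U i)) (_ : ⨆ i, U i = ⊤)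
      (s : ∀ i, Finset (A.presheaf.obj (op (U i)))), ∀ i, ∀ R : Subring (A.presheaf.obj (op (U i))),
      (∀ r, (A.str.app (op (U i))).hom r ∈ R) → (∀ a ∈ s i, a ∈ R) → R = ⊤ := by
  classical
  obtain ⟨ι, hfin, U, hU, hcov⟩ : ∃ (ι : Type u) (_ : Finite ι) (U : ι → X.Opens),
      (∀ i, IsAffineOpen (U i)) ∧ ⨆ i, U i = ⊤ := by
    obtain ⟨s, hs, hs'⟩ := isCompact_iff_finite_and_eq_biUnion_affineOpens.1
      (show IsCompact ((⊤ : X.Opens) : Set X) from CompactSpace.isCompact_univ (X := X))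
    refine ⟨s, hs.to_subtype, fun i => i.1.1, fun i => i.1.2, ?_⟩
    rw [eq_top_iff]
    intro x _
    have hx : x ∈ (⊤ : X.Opens) := trivial
    rw [hs'] at hx
    obtain ⟨i, hi⟩ := Opens.mem_iSup.1 hx
    obtain ⟨hi, hxi⟩ := Opens.mem_iSup.1 hi
    exact Opens.mem_iSup.2 ⟨⟨i, hi⟩, hxi⟩
  have h1 : ∀ i, ∃ s : Finset (A.presheaf.obj (op (U i))), ∀ R : Subring (A.presheaf.obj (op (U i))),
      (∀ r, (A.str.app (op (U i))).hom r ∈ R) → (∀ a ∈ s, a ∈ R) → R = ⊤ := by
    intro i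
    let _ := (A.str.app (op (U i))).hom.toAlgebra
    have h2 : Algebra.FiniteType Γ(X, U i) (A.presheaf.obj (op (U i))) := hft (U i) (hU i)
    obtain ⟨s, hs⟩ := h2.out
    refine ⟨s, fun R hR hsR => ?_⟩
    let R' : Subalgebra Γ(X, U i) (A.presheaf.obj (op (U i))) := { R with algebraMap_mem' := hR }
    have h3 : Algebra.adjoin Γ(X, U i) (s : Set (A.presheaf.obj (op (U i)))) ≤ R' :=
      Algebra.adjoin_le fun a ha => hsR a ha
    rw [hs] at h3
    rw [eq_top_iff]
    exact fun a _ => h3 (Algebra.mem_top (x := a))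
  choose s hs using h1
  exact ⟨ι, hfin, U, hU, hcov, s, hs⟩

/-- A finite type quasi-coherent algebra is generated by a finite type quasi-coherent submodule. -/
theorem exists_ft [CompactSpace X] [QuasiSeparatedSpace X] (A : RelSpec.QCAlg X)
    (hft : ∀ U : X.Opens, IsAffineOpen U → (A.str.app (op U)).hom.FiniteType) :
    ∃ (G : X.Modules) (j : G ⟶ A.toModule) (_ : Coh.IsQCoh G) (_ : CohB1.IsFT G)
      (ι : Type u) (U : ι → X.Opens) (_ : ∀ i, IsAffineOpen (U i)) (_ : ⨆ i, U i = ⊤),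
      ∀ (E : X.Modules) (_ : Coh.IsQCoh E) (π : E ⟶ G) (_ : Epi π) (i : ι),
        Function.Surjective (symHom E A (π ≫ j) (U i)) := by
  classical
  obtain ⟨ι, hfin, U, hU, hcov, s, hs⟩ := exists_gens A hft
  have := Fintype.ofFinite ι
  obtain ⟨G, j, hG, hG', -, hj⟩ := Groth.Agent.PerfC.FTExt.exists_isFT_mono_sections A.toModule (isQCoh_toModule A)
    (ι := Σ i, {a // a ∈ s i}) Finset.univ (fun x => U x.1) (fun x _ => (hU x.1).isCompact)
    (fun x => x.2.1)
  refine ⟨G, j, hG, hG', ι, U, hU, hcov, fun E hE π hπ i => ?_⟩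
  rw [← RingHom.range_eq_top]
  apply hs i
  · intro r
    exact ⟨algebraMap _ _ r, symHom_algebraMap _ _ _ _ r⟩
  · intro a ha
    obtain ⟨t, ht⟩ := hj ⟨i, a, ha⟩ (Finset.mem_univ _)
    obtain ⟨t', ht'⟩ := Groth.Agent.Sga67.QCohEpi.app_surjective π hE hG (hU i) t
    refine ⟨SymmetricAlgebra.ι _ _ t', ?_⟩
    rw [symHom_ι]
    refine Eq.trans ?_ ht
    rw [← ht']
    rfl

end K783.EmbedFT
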