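import Groth.Agent.EGA2.K36.SymAlg

/-!
# The trivial square-zero extension of a quasi-coherent module

`exists_tsz`: for `M` quasi-coherent on `X` there are `Y` affine over `X` (the spectrum of `O ⊕ M`), and, over every
affine open `U`, a description of `(f_* O_Y)(U)` as the trivial square-zero extension of `O(U)` by `M(U)`.
-/

set_option autoImplicit false
universe u

open CategoryTheory CategoryTheory.Limits AlgebraicGeometry Opposite TopologicalSpace

namespace K783.TSZ

/-- The trivial square-zero extension `R ⊕ M`. -/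
@[ext]
structure T (R M : Type u) where
  /-- scalar part -/
  fst : R
  /-- module part -/
  snd : M

section ring

variable {R M : Type u} [CommRing R] [AddCommGroup M]

instance : Zero (T R M) := ⟨⟨0, 0⟩⟩
instance : One (T R M) := ⟨⟨1, 0⟩⟩
instance : Add (T R M) := ⟨fun a b => ⟨a.fst + b.fst, a.snd + b.snd⟩⟩
instance : Neg (T R M) := ⟨fun a => ⟨-a.fst, -a.snd⟩⟩
theorem fst_zero : (0 : T R M).fst = 0 := rfl
theorem snd_zero : (0 : T R M).snd = 0 := rfl
theorem fst_one : (1 : T R M).fst = 1 := rfl
theorem snd_one : (1 : T R M).snd = 0 := rfl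
theorem fst_add (a b : T R M) : (a + b).fst = a.fst + b.fst := rfl
theorem snd_add (a b : T R M) : (a + b).snd = a.snd + b.snd := rfl
theorem fst_neg (a : T R M) : (-a).fst = -a.fst := rfl
theorem snd_neg (a : T R M) : (-a).snd = -a.snd := rfl

variable [Module R M]

instance : Mul (T R M) := ⟨fun a b => ⟨a.fst * b.fst, a.fst • b.snd + b.fst • a.snd⟩⟩

theorem fst_mul (a b : T R M) : (a * b).fst = a.fst * b.fst := rfl
theorem snd_mul (a b : T R M) : (a * b).snd = a.fst • b.snd + b.fst • a.snd := rfl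

instance : CommRing (T R M) where
  add_assoc a b c := by ext <;> simp only [fst_add, snd_add, add_assoc]
  zero_add a := by ext <;> simp only [fst_add, snd_add, fst_zero, snd_zero, zero_add]
  add_zero a := by ext <;> simp only [fst_add, snd_add, fst_zero, snd_zero, add_zero]
  add_comm a b := by ext <;> simp only [fst_add, snd_add, add_comm]
  left_distrib a b c := by
    ext <;> simp only [fst_add, snd_add, fst_mul, snd_mul, mul_add, smul_add, add_smul]
    abel
  right_distrib a b c := by
    ext <;> simp only [fst_add, snd_add, fst_mul, snd_mul, add_mul, smul_add, add_smul]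
    abel
  zero_mul a := by ext <;> simp only [fst_mul, snd_mul, fst_zero, snd_zero, zero_mul, zero_smul, smul_zero, add_zero]
  mul_zero a := by ext <;> simp only [fst_mul, snd_mul, fst_zero, snd_zero, mul_zero, zero_smul, smul_zero, add_zero]
  mul_assoc a b c := by
    ext
    · simp only [fst_mul, mul_assoc]
    · simp only [fst_mul, snd_mul, smul_add, mul_smul]
      rw [smul_comm c.fst a.fst b.snd, smul_comm c.fst b.fst a.snd, add_assoc]
  one_mul a := by ext <;> simp only [fst_mul, snd_mul, fst_one, snd_one, one_mul, one_smul, smul_zero, add_zero]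
  mul_one a := by ext <;> simp only [fst_mul, snd_mul, fst_one, snd_one, mul_one, one_smul, smul_zero, zero_add]
  neg_add_cancel a := by
    ext <;> simp only [fst_add, snd_add, fst_neg, snd_neg, fst_zero, snd_zero, neg_add_cancel]
  mul_comm a b := by
    ext
    · simp only [fst_mul, mul_comm]
    · simp only [snd_mul, add_comm]
  nsmul := nsmulRec
  zsmul := zsmulRec

/-- The inclusion of scalars. -/
def inl : R →+* T R M where
  toFun r := ⟨r, 0⟩
  map_one' := rfl
  map_zero' := rfl
  map_add' a b := by ext <;> simp [fst_add, snd_add]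
  map_mul' a b := by ext <;> simp [fst_mul, snd_mul]

/-- The scalar part, as a ring homomorphism. -/
def fstHom : T R M →+* R where
  toFun := T.fst
  map_one' := rfl
  map_zero' := rfl
  map_add' _ _ := rfl
  map_mul' _ _ := rfl

/-- The module part, as an additive homomorphism. -/
def sndHom : T R M →+ M where
  toFun := T.snd
  map_zero' := rfl
  map_add' _ _ := rfl

theorem fst_inl (r : R) : (inl r : T R M).fst = r := rfl
theorem snd_inl (r : R) : (inl r : T R M).snd = 0 := rfl

theorem inl_mul (r : R) (a : T R M) : inl r * a = ⟨r * a.fst, r • a.snd⟩ := by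
  ext
  · rfl
  · simp [snd_mul, fst_inl, snd_inl]

variable {R' M' : Type u} [CommRing R'] [AddCommGroup M'] [Module R' M']

/-- Functoriality. -/
def map (σ : R →+* R') (g : M →+ M') (hg : ∀ r m, g (r • m) = σ r • g m) : T R M →+* T R' M' where
  toFun a := ⟨σ a.fst, g a.snd⟩
  map_one' := by ext <;> simp [fst_one, snd_one]
  map_zero' := by ext <;> simp [fst_zero, snd_zero]
  map_add' a b := by ext <;> simp [fst_add, snd_add]
  map_mul' a b := by ext <;> simp [fst_mul, snd_mul, hg]

theorem map_apply (σ : R →+* R') (g : M →+ M') (hg : ∀ r m, g (r • m) = σ r • g m) (a : T R M) :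
    map σ g hg a = ⟨σ a.fst, g a.snd⟩ := rfl

theorem isLocalization_map (σ : R →+* R') (g : M →+ M') (hg : ∀ r m, g (r • m) = σ r • g m) (f : R)
    (h1 : ∀ m' : M', ∃ (n : ℕ) (m : M), g m = σ f ^ n • m')
    (h2 : ∀ m : M, g m = 0 → ∃ n : ℕ, f ^ n • m = 0)
    (hσu : IsUnit (σ f)) (hσ : ∀ r' : R', ∃ (n : ℕ) (r : R), σ r = σ f ^ n * r')
    (hσ0 : ∀ r, σ r = 0 → ∃ n : ℕ, f ^ n * r = 0) :
    letI := (map σ g hg).toAlgebra
    IsLocalization.Away (inl f : T R M) (T R' M') := by
  let _ := (map σ g hg).toAlgebra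
  have hinl : ∀ (n : ℕ) (a : T R M), inl f ^ n * a = ⟨f ^ n * a.fst, f ^ n • a.snd⟩ := by
    intro n a
    rw [← map_pow, inl_mul]
  have hinl' : ∀ (n : ℕ) (a : T R' M'), map σ g hg (inl f) ^ n * a = ⟨σ f ^ n * a.fst, σ f ^ n • a.snd⟩ := by
    intro n a
    have : map σ g hg (inl f) = inl (σ f) := by ext <;> simp [map_apply, inl]
    rw [this, ← map_pow, inl_mul]
  refine (isLocalization_iff _ _).2 ⟨fun y => ?_, fun z => ?_, fun {a b} hab => ?_⟩
  · obtain ⟨n, hn⟩ := y.2
    obtain ⟨v, hv⟩ := hσu
    have hu : IsUnit (map σ g hg (inl f)) := by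
      have : map σ g hg (inl f) = inl (σ f) := by ext <;> simp [map_apply, inl]
      rw [this, ← hv]
      exact IsUnit.map inl v.isUnit
    have : algebraMap (T R M) (T R' M') y = map σ g hg (inl f) ^ n := by
      rw [← map_pow]
      exact congrArg (map σ g hg) hn.symm
    rw [this]
    exact hu.pow n
  · obtain ⟨n1, r, hr⟩ := hσ z.fst
    obtain ⟨n2, m, hm⟩ := h1 z.snd
    refine ⟨⟨⟨f ^ n2 * r, f ^ n1 • m⟩, ⟨inl f ^ (n1 + n2), n1 + n2, rfl⟩⟩, ?_⟩
    change z * map σ g hg (inl f ^ (n1 + n2)) = map σ g hg ⟨f ^ n2 * r, f ^ n1 • m⟩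
    rw [map_pow, mul_comm, hinl', map_apply]
    ext
    · change σ f ^ (n1 + n2) * z.fst = σ (f ^ n2 * r)
      rw [map_mul, map_pow, hr, pow_add]
      ring
    · change σ f ^ (n1 + n2) • z.snd = g (f ^ n1 • m)
      rw [hg, hm, map_pow, smul_smul, pow_add]
  · have h3 : map σ g hg (a - b) = 0 := by
      rw [map_sub, sub_eq_zero]
      exact hab
    have h4 : σ (a - b).fst = 0 := congrArg T.fst h3
    have h5 : g (a - b).snd = 0 := congrArg T.snd h3
    obtain ⟨n1, hn1⟩ := hσ0 _ h4
    obtain ⟨n2, hn2⟩ := h2 _ h5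
    refine ⟨⟨inl f ^ (n1 + n2), n1 + n2, rfl⟩, ?_⟩
    change inl f ^ (n1 + n2) * a = inl f ^ (n1 + n2) * b
    rw [← sub_eq_zero, ← mul_sub, hinl]
    ext
    · change f ^ (n1 + n2) * (a - b).fst = 0
      rw [add_comm, pow_add, mul_assoc, hn1, mul_zero]
    · change f ^ (n1 + n2) • (a - b).snd = 0
      rw [pow_add, mul_smul, hn2, smul_zero]

end ring

section sheaf

open AlgebraicGeometry.Scheme.AffineZariskiSite Groth.Agent.CohqB.AlgSym Groth.Agent.CohqB.QC2
  Groth.Agent.CohqB.QC4 Groth.Agent.CohqB.QC5 Groth.Agent.CohqB.QC6 K36.QCAlgAff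

variable {X : Scheme.{u}} (M : X.Modules)

/-- `O ⊕ M` as a functor on the affine opens. -/
noncomputable def tszF : X.AffineZariskiSiteᵒᵖ ⥤ CommRingCat.{u} where
  obj U := CommRingCat.of (T Γ(X, U.unop.toOpens) Γ(M, U.unop.toOpens))
  map {U V} i := CommRingCat.ofHom (map _ _ (res_smul' M i))
  map_id U := by
    ext1
    refine RingHom.ext fun a => T.ext ?_ ?_
    · exact congrArg (fun φ => φ.hom a.fst) (X.presheaf.map_id (op U.unop.toOpens))
    · exact congrArg (fun φ => φ.hom a.snd) (M.presheaf.map_id (op U.unop.toOpens))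
  map_comp {U V W} i j := by
    ext1
    refine RingHom.ext fun a => T.ext ?_ ?_
    · exact congrArg (fun φ => φ.hom a.fst)
        (X.presheaf.map_comp ((toOpensFunctor X).map i.unop).op ((toOpensFunctor X).map j.unop).op)
    · exact congrArg (fun φ => φ.hom a.snd)
        (M.presheaf.map_comp ((toOpensFunctor X).map i.unop).op ((toOpensFunctor X).map j.unop).op)

/-- The structure map. -/
noncomputable def tszα : (toOpensFunctor X).op ⋙ X.presheaf ⟶ tszF M where
  app U := CommRingCat.ofHom (inl : Γ(X, U.unop.toOpens) →+* T Γ(X, U.unop.toOpens) Γ(M, U.unop.toOpens))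
  naturality {U V} i := by
    ext1
    refine RingHom.ext fun r => T.ext rfl ?_
    exact (map_zero (M.presheaf.map ((toOpensFunctor X).map i.unop).op).hom).symm

variable {M}

theorem coequifibered (hM : Coh.IsQCoh M) : (tszα M).Coequifibered := by
  rw [coequifibered_iff_forall_isLocalizationAway]
  intro U f
  have hloc := (isQuasicoherent_iff_loc M).1 hM U.toOpens U.2
  have h1 : IsLocalization.Away f Γ(X, X.basicOpen f) := U.2.isLocalization_basicOpen f
  refine isLocalization_map (R := Γ(X, U.toOpens)) (M := Γ(M, U.toOpens))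
    (R' := Γ(X, X.basicOpen f)) (M' := Γ(M, X.basicOpen f)) _ _
    (res_smul' M (homOfLE (U.basicOpen_le f)).op) f ?_ ?_ ?_ ?_ ?_
  · intro s
    obtain ⟨n, t, ht⟩ := hloc.exists_lift f s
    exact ⟨n, t, ht⟩
  · intro m hm
    exact hloc.eq_zero f m hm
  · exact IsLocalization.Away.algebraMap_isUnit f
  · intro r'
    obtain ⟨n, a, ha⟩ := IsLocalization.Away.surj f r'
    exact ⟨n, a, ha.symm.trans (mul_comm _ _)⟩
  · intro r hr
    obtain ⟨n, hn⟩ := IsLocalization.Away.exists_of_eq (S := Γ(X, X.basicOpen f)) f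
      (a := r) (b := 0) (hr.trans (map_zero _).symm)
    exact ⟨n, by rw [hn, mul_zero]⟩

theorem exists_tsz (hM : Coh.IsQCoh M) : ∃ (Y : Scheme.{u}) (f : Y ⟶ X) (_ : IsAffineHom f)
    (e : ∀ (U : X.Opens) (_ : IsAffineOpen U),
      (RelSpec.QCAlg.directImage f).presheaf.obj (op U) ≃+* T Γ(X, U) Γ(M, U)),
    (∀ (U : X.Opens) (hU : IsAffineOpen U) (r : Γ(X, U)),
      e U hU (((RelSpec.QCAlg.directImage f).str.app (op U)).hom r) = inl r) ∧
    ∀ (U : X.Opens) (hU : IsAffineOpen U) (r : Γ(X, U)) (x : (RelSpec.QCAlg.directImage f).presheaf.obj (op U)),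
      (e (X.basicOpen r) (hU.basicOpen r)
        (((RelSpec.QCAlg.directImage f).presheaf.map (homOfLE (X.basicOpen_le r)).op).hom x)).snd =
      M.presheaf.map (homOfLE (X.basicOpen_le r)).op (e U hU x).snd := by
  refine ⟨_, Groth.Agent.CohqB.RelSpec.toBase (coequifibered hM),
    Groth.Agent.CohqB.RelSpec.isAffineHom_toBase (coequifibered hM),
    fun U hU => (asIso (secAff (coequifibered hM) U hU)).commRingCatIsoToRingEquiv, ?_, ?_⟩
  · intro U hU r
    exact congr($(str_secAff (coequifibered hM) U hU) r)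
  · intro U hU r x
    exact congrArg T.snd congr($(secAff_res (coequifibered hM) U hU r) x)

end sheaf

end K783.TSZ
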