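import Groth.Agent.ResProp.K783.SpecEmb
import Groth.Agent.ResProp.K783.TSZ
import Groth.Agent.ResProp.K782.CoprodSec
import Groth.Agent.FormalB.SysSect
import Groth.Agent.CohqB.QC7

/-!
# Generating families and closed immersions into vector bundles
-/

set_option autoImplicit false
universe u

open CategoryTheory CategoryTheory.Limits AlgebraicGeometry Opposite TopologicalSpace

namespace K783.EmbedGen

open K36.SymAlg K36.QCAlgAff

variable {X : Scheme.{u}}

/-- A quasi-coherent algebra is a quasi-coherent module. -/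
theorem isQCoh_toModule (A : RelSpec.QCAlg X) : Coh.IsQCoh A.toModule := by
  refine (Groth.Agent.CohqB.QC2.isQuasicoherent_iff_loc A.toModule).2 fun U hU => ?_
  refine ⟨fun r s => ?_, fun r m hm => ?_⟩
  · let _ := (A.presheaf.map (homOfLE (X.basicOpen_le r)).op).hom.toAlgebra
    have h := A.isQC U hU r
    obtain ⟨n, a, ha⟩ := IsLocalization.Away.surj ((A.str.app (op U)).hom r)
      (show A.presheaf.obj (op (X.basicOpen r)) from s)
    refine ⟨n, a, ?_⟩
    have h1 : (A.str.app (op (X.basicOpen r))).hom ((X.presheaf.map (homOfLE (X.basicOpen_le r)).op).hom r) =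
        (A.presheaf.map (homOfLE (X.basicOpen_le r)).op).hom ((A.str.app (op U)).hom r) :=
      congr($(A.str.naturality (homOfLE (X.basicOpen_le r)).op) r)
    have h2 : (A.str.app (op (X.basicOpen r))).hom
        ((X.presheaf.map (homOfLE (X.basicOpen_le r)).op).hom r ^ n) *
          (show A.presheaf.obj (op (X.basicOpen r)) from s) =
        (A.presheaf.map (homOfLE (X.basicOpen_le r)).op).hom a := by
      rw [map_pow, h1, mul_comm]
      exact ha
    exact h2.symm
  · let _ := (A.presheaf.map (homOfLE (X.basicOpen_le r)).op).hom.toAlgebra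
    have h := A.isQC U hU r
    have hm' : algebraMap (A.presheaf.obj (op U)) (A.presheaf.obj (op (X.basicOpen r))) m =
        algebraMap (A.presheaf.obj (op U)) (A.presheaf.obj (op (X.basicOpen r))) 0 := by
      rw [map_zero]
      exact hm
    obtain ⟨n, hn⟩ := IsLocalization.Away.exists_of_eq (S := A.presheaf.obj (op (X.basicOpen r)))
      ((A.str.app (op U)).hom r) hm'
    refine ⟨n, ?_⟩
    rw [mul_zero, ← map_pow] at hn
    exact hn

/-- If every element of `A(U)` comes from `Sym(E(U))` for `U` in an affine open cover, then `Spec A` is closed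
in `V(E)`. -/
theorem exists_closedImmersion {Y : Scheme.{u}} (f : Y ⟶ X) [IsAffineHom f] (E : X.Modules) (hE : Coh.IsQCoh E)
    (π : E ⟶ (RelSpec.QCAlg.directImage f).toModule) {ι : Type*} (U : ι → X.Opens)
    (hU : ∀ i, IsAffineOpen (U i)) (hcov : ⨆ i, U i = ⊤)
    (h : ∀ i, Function.Surjective (symHom E (RelSpec.QCAlg.directImage f) π (U i))) :
    ∃ (B : RelSpec.QCAlg X) (φ : E ⟶ B.toModule) (c : Y ⟶ B.spec), RelSpec.IsSymAlg E B φ ∧
      IsClosedImmersion c ∧ c ≫ B.π = f := by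
  obtain ⟨B, φ, hB, -⟩ := exists_symAlg E hE
  obtain ⟨ψ, hψ, -⟩ := hB (RelSpec.QCAlg.directImage f) π
  obtain ⟨c, hc, e⟩ := SpecEmb.exists_closedImmersion ψ U hU hcov (fun i => by
    have h1 := comp_symHom ψ hψ (U i)
    intro y
    obtain ⟨x, hx⟩ := h i y
    exact ⟨symHom E B φ (U i) x, by rw [← hx, ← h1]; rfl⟩)
  exact ⟨B, φ, c, hB, hc, e⟩

theorem surjective_symHom_of_epi {E : X.Modules} (hE : Coh.IsQCoh E) (A : RelSpec.QCAlg X) (π : E ⟶ A.toModule)
    [Epi π] {U : X.Opens} (hU : IsAffineOpen U) : Function.Surjective (symHom E A π U) := by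
  intro y
  obtain ⟨m, hm⟩ := Groth.Agent.Sga67.QCohEpi.app_surjective π hE (isQCoh_toModule A) hU y
  exact ⟨SymmetricAlgebra.ι _ _ m, by rw [symHom_ι, ← hm]; rfl⟩

/-- Finite type case: finitely many summands suffice. -/
theorem exists_finite [CompactSpace X] [QuasiSeparatedSpace X] {κ : Type u} (F : κ → X.Modules)
    (hF : ∀ k, Coh.IsQCoh (F k)) (A : RelSpec.QCAlg X) (π : (∐ F) ⟶ A.toModule) [Epi π]
    (hft : ∀ U : X.Opens, IsAffineOpen U → (A.str.app (op U)).hom.FiniteType) :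
    ∃ (ι : Type u) (U : ι → X.Opens) (_ : ∀ i, IsAffineOpen (U i)) (_ : ⨆ i, U i = ⊤) (T : Finset κ),
      ∀ i, Function.Surjective (symHom (∐ fun k : {k // k ∈ T} => F k.1) A
        ((Sigma.desc fun k : {k // k ∈ T} => Sigma.ι F k.1) ≫ π) (U i)) := by
  classical
  obtain ⟨ι, hfin, U, hU, hcov⟩ : ∃ (ι : Type u) (_ : Finite ι) (U : ι → X.Opens),
      (∀ i, IsAffineOpen (U i)) ∧ ⨆ i, U i = ⊤ := by
    obtain ⟨s, hs, hs'⟩ := isCompact_iff_finite_and_eq_biUnion_affineOpens.1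
      (show IsCompact ((⊤ : X.Opens) : Set X) from CompactSpace.isCompact_univ (X := X))
    refine ⟨s, hs.to_subtype, fun i => i.1.1, fun i => i.1.2, ?_⟩
    rw [eq_top_iff]
    intro x _
    have hx : x ∈ (⊤ : X.Opens) := trivial
    rw [hs'] at hx
    obtain ⟨i, hi⟩ := Opens.mem_iSup.1 hx
    obtain ⟨hi, hxi⟩ := Opens.mem_iSup.1 hi
    exact Opens.mem_iSup.2 ⟨⟨i, hi⟩, hxi⟩
  have := Fintype.ofFinite ι
  have h1 : ∀ i, ∃ s : Finset (A.presheaf.obj (op (U i))), ∀ R : Subring (A.presheaf.obj (op (U i))),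
      (∀ r, (A.str.app (op (U i))).hom r ∈ R) → (∀ a ∈ s, a ∈ R) → R = ⊤ := by
    intro i
    let _ := (A.str.app (op (U i))).hom.toAlgebra
    have h2 : Algebra.FiniteType Γ(X, U i) (A.presheaf.obj (op (U i))) := hft (U i) (hU i)
    obtain ⟨s, hs⟩ := h2.out
    refine ⟨s, fun R hR hsR => ?_⟩
    let R' : Subalgebra Γ(X, U i) (A.presheaf.obj (op (U i))) := { R with algebraMap_mem' := hR }
    have h3 : Algebra.adjoin Γ(X, U i) (s : Set (A.presheaf.obj (op (U i)))) ≤ R' :=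
      Algebra.adjoin_le fun a ha => hsR a ha
    rw [hs] at h3
    rw [eq_top_iff]
    exact fun a _ => h3 (Algebra.mem_top (x := a))
  choose s hs using h1
  have h4 : ∀ (i : ι) (a : A.presheaf.obj (op (U i))), ∃ (T : Finset κ), ∀ T' : Finset κ, T ⊆ T' →
      ∃ t : Γ(∐ fun k : {k // k ∈ T'} => F k.1, U i),
        ((Sigma.desc fun k : {k // k ∈ T'} => Sigma.ι F k.1) ≫ π).app (U i) t = a := by
    intro i a
    obtain ⟨x, hx⟩ := Groth.Agent.Sga67.QCohEpi.app_surjective π
      (Groth.Agent.CohqB.QC7.isQCoh_coproduct F hF) (isQCoh_toModule A) (hU i) a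
    obtain ⟨S, t, ht⟩ := K782.CoprodSec.exists_finset_sum F (hU i).isCompact x
    refine ⟨S.image fun k => k.as, fun T' hT' => ?_⟩
    refine ⟨∑ k : {k // k ∈ S}, (Sigma.ι (fun k : {k // k ∈ T'} => F k.1)
      ⟨k.1.as, hT' (Finset.mem_image_of_mem _ k.2)⟩).app (U i) (t k), ?_⟩
    rw [← hx, ht, map_sum, map_sum]
    refine Finset.sum_congr rfl fun k _ => ?_
    have h5 : Sigma.ι (fun k : {k // k ∈ T'} => F k.1) ⟨k.1.as, hT' (Finset.mem_image_of_mem _ k.2)⟩ ≫
      (Sigma.desc fun k : {k // k ∈ T'} => Sigma.ι F k.1) = Sigma.ι F k.1.as := Sigma.ι_desc _ _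
    have h6 : (Sigma.ι (fun k : {k // k ∈ T'} => F k.1) ⟨k.1.as, hT' (Finset.mem_image_of_mem _ k.2)⟩ ≫
      (Sigma.desc fun k : {k // k ∈ T'} => Sigma.ι F k.1) ≫ π).app (U i) (t k) =
        (Sigma.ι F k.1.as ≫ π).app (U i) (t k) := by
      rw [← Category.assoc, h5]
    exact h6
  choose T hT using h4
  refine ⟨ι, U, hU, hcov, Finset.univ.biUnion fun i => (s i).biUnion (T i), fun i => ?_⟩
  rw [← RingHom.range_eq_top]
  apply hs i
  · intro r
    exact ⟨algebraMap _ _ r, symHom_algebraMap _ _ _ _ r⟩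
  · intro a ha
    obtain ⟨t, ht⟩ := hT i a (Finset.univ.biUnion fun i => (s i).biUnion (T i))
      ((Finset.subset_biUnion_of_mem (T i) ha).trans
        (Finset.subset_biUnion_of_mem (fun i => (s i).biUnion (T i)) (Finset.mem_univ i)))
    exact ⟨SymmetricAlgebra.ι _ _ t, by rw [symHom_ι, ← ht]; rfl⟩

/-- The spectrum of `O ⊕ M`: whenever it is closed in `V(E)`, `M` is a quotient of `E`. -/
theorem exists_test (M : X.Modules) (hM : Coh.IsQCoh M) : ∃ (Y : Scheme.{u}) (f : Y ⟶ X) (_ : IsAffineHom f),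
    ∀ (E : X.Modules) (_ : Coh.IsQCoh E) (B : RelSpec.QCAlg X) (φ : E ⟶ B.toModule) (_ : RelSpec.IsSymAlg E B φ)
      (c : Y ⟶ B.spec) (_ : IsClosedImmersion c) (_ : c ≫ B.π = f), ∃ v : E ⟶ M, Epi v := by
  obtain ⟨Y, f, hf, e, he, hres⟩ := TSZ.exists_tsz hM
  refine ⟨Y, f, hf, fun E hE B φ hB c hc hcf => ?_⟩
  obtain ⟨ψ, hψ⟩ := SpecEmb.exists_surjective c hcf
  have hstr : ∀ (U : X.Opens) (r : Γ(X, U)), (ψ.hom.app (op U)).hom ((B.str.app (op U)).hom r) =
      ((RelSpec.QCAlg.directImage f).str.app (op U)).hom r := fun U r =>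
    congr($(NatTrans.congr_app ψ.comm (op U)) r)
  obtain ⟨v, hv⟩ := exists_mod_hom (M := E) (N := M)
    (fun U hU => (TSZ.sndHom (R := Γ(X, U)) (M := Γ(M, U))).comp
      ((e U hU).toRingHom.toAddMonoidHom.comp ((ψ.hom.app (op U)).hom.toAddMonoidHom.comp (jApp E B φ U))))
    (fun U hU r m => by
      change (e U hU ((ψ.hom.app (op U)).hom (jApp E B φ U (r • m)))).snd =
        r • (e U hU ((ψ.hom.app (op U)).hom (jApp E B φ U m))).snd
      rw [jApp_smul, map_mul, hstr, map_mul, he, TSZ.inl_mul])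
    (fun U hU r m => by
      change (e (X.basicOpen r) (hU.basicOpen r) ((ψ.hom.app (op (X.basicOpen r))).hom
        (jApp E B φ (X.basicOpen r) (E.presheaf.map (homOfLE (X.basicOpen_le r)).op m)))).snd =
        M.presheaf.map (homOfLE (X.basicOpen_le r)).op (e U hU ((ψ.hom.app (op U)).hom (jApp E B φ U m))).snd
      rw [jApp_res, ← hres]
      have := congr($(ψ.hom.naturality (homOfLE (X.basicOpen_le r)).op) (jApp E B φ U m))
      exact congrArg (fun z => (e (X.basicOpen r) (hU.basicOpen r) z).snd) this)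
  refine ⟨v, Groth.Agent.FormalB.SysSect.epi_of_affine v fun U hU m => ?_⟩
  obtain ⟨y, hy⟩ := (e U hU).surjective ⟨0, m⟩
  obtain ⟨b, hb⟩ := hψ U hU y
  obtain ⟨x, hx⟩ := (bijective_symHom hE hB U hU).2 b
  have key : ∀ x : SymmetricAlgebra Γ(X, U) Γ(E, U),
      ∃ t : Γ(E, U), v.app U t = (e U hU ((ψ.hom.app (op U)).hom (symHom E B φ U x))).snd := by
    intro x
    induction x using SymmetricAlgebra.induction with
    | algebraMap r => exact ⟨0, by rw [symHom_algebraMap, hstr, he, map_zero]; rfl⟩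
    | ι m => exact ⟨m, by rw [symHom_ι, hv U hU m]; rfl⟩
    | mul a b ha hb =>
      obtain ⟨s, hs⟩ := ha
      obtain ⟨t, ht⟩ := hb
      refine ⟨(e U hU ((ψ.hom.app (op U)).hom (symHom E B φ U a))).fst • t +
        (e U hU ((ψ.hom.app (op U)).hom (symHom E B φ U b))).fst • s, ?_⟩
      rw [map_add, Scheme.Modules.Hom.app_smul, Scheme.Modules.Hom.app_smul, hs, ht, map_mul, map_mul, map_mul,
        TSZ.snd_mul]
    | add a b ha hb =>
      obtain ⟨s, hs⟩ := ha
      obtain ⟨t, ht⟩ := hb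
      refine ⟨s + t, ?_⟩
      rw [map_add, hs, ht, map_add, map_add, map_add, TSZ.snd_add]
  obtain ⟨t, ht⟩ := key x
  refine ⟨t, ?_⟩
  rw [ht, hx, hb, hy]

end K783.EmbedGen
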