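import Groth.Agent.Ega1.TildePullback
import Groth.Agent.PerfC.TildeProj
import Groth.Agent.PerfC.TildeFLF
import Groth.Agent.PerfA.QCohSerre
import Groth.Agent.PerfA.QCohEpi
import Groth.Agent.PerfC.PullRestrict
import Groth.Agent.Sga5.NilLift
import Groth.Agent.FlatA.NilpotentFree

/-!
# Finite locally free modules lift along nilpotent closed immersions of affine schemes
-/

set_option autoImplicit false
universe u
open CategoryTheory CategoryTheory.Limits AlgebraicGeometry TopologicalSpace TensorProduct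

namespace K783.LiftAff

open Scheme.Modules Groth.Agent

/-- Every finite locally free module on the source is, up to isomorphism, the pullback of a finite locally free
module on the target. -/
def HasLifts {X' X : Scheme.{u}} (f : X' ⟶ X) : Prop :=
  ∀ E' : X'.Modules, FlatMod.IsFinLocFree E' →
    ∃ E : X.Modules, FlatMod.IsFinLocFree E ∧ Nonempty ((Scheme.Modules.pullback f).obj E ≅ E')

lemma HasLifts.comp {X Y Z : Scheme.{u}} {f : X ⟶ Y} {g : Y ⟶ Z} (hf : HasLifts f) (hg : HasLifts g) :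
    HasLifts (f ≫ g) := by
  intro E' hE'
  obtain ⟨E₁, h1, ⟨e1⟩⟩ := hf E' hE'
  obtain ⟨E₂, h2, ⟨e2⟩⟩ := hg E₁ h1
  exact ⟨E₂, h2, ⟨(Scheme.Modules.pullbackComp f g).symm.app E₂ ≪≫ (Scheme.Modules.pullback f).mapIso e2 ≪≫ e1⟩⟩

lemma hasLifts_id (X : Scheme.{u}) : HasLifts (𝟙 X) := fun E' hE' =>
  ⟨E', hE', ⟨(Scheme.Modules.pullbackId X).app E'⟩⟩

lemma hasLifts_of_isIso {X Y : Scheme.{u}} (f : X ⟶ Y) [IsIso f] : HasLifts f := by
  intro E' hE'
  refine ⟨(Scheme.Modules.pullback (inv f)).obj E', PerfC.PullRestrict.isFinLocFree_pullback _ hE', ⟨?_⟩⟩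
  exact (Scheme.Modules.pullbackComp f (inv f)).app E' ≪≫
    (Scheme.Modules.pullbackCongr (IsIso.hom_inv_id f)).app E' ≪≫ (Scheme.Modules.pullbackId X).app E'

/-- A module which is finite modulo a nilpotent ideal is finite. -/
theorem finite_of_nilpotent {A : Type u} [CommRing A] (I : Ideal A) (hI : IsNilpotent I)
    (P : Type u) [AddCommGroup P] [Module A P] [h : Module.Finite (A ⧸ I) ((A ⧸ I) ⊗[A] P)] :
    Module.Finite A P := by
  obtain ⟨s, hs⟩ := h.fg_top
  have hsurj := Sga5.NilLift.mk_one_surjective I P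
  choose g hg using hsurj
  classical
  let N : Submodule A P := Submodule.span A (s.image g : Set P)
  have key : N ⊔ I • (⊤ : Submodule A P) = ⊤ := by
    rw [eq_top_iff]
    rintro p -
    have h1 : (1 : A ⧸ I) ⊗ₜ[A] p ∈ Submodule.span (A ⧸ I) (s : Set ((A ⧸ I) ⊗[A] P)) := by
      rw [hs]; trivial
    have h2 : ∀ y ∈ Submodule.span (A ⧸ I) (s : Set ((A ⧸ I) ⊗[A] P)), ∃ n ∈ N, (1 : A ⧸ I) ⊗ₜ[A] n = y := by
      intro y hy
      induction hy using Submodule.span_induction with
      | mem y hy => exact ⟨g y, Submodule.subset_span (Finset.mem_coe.2 (Finset.mem_image_of_mem g hy)), hg y⟩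
      | zero => exact ⟨0, N.zero_mem, TensorProduct.tmul_zero _ _⟩
      | add y z _ _ hy hz =>
        obtain ⟨n, hn, rfl⟩ := hy
        obtain ⟨m, hm, rfl⟩ := hz
        exact ⟨n + m, N.add_mem hn hm, TensorProduct.tmul_add _ _ _⟩
      | smul a y _ hy =>
        obtain ⟨n, hn, rfl⟩ := hy
        obtain ⟨a, rfl⟩ := Ideal.Quotient.mk_surjective a
        refine ⟨a • n, N.smul_mem a hn, ?_⟩
        rw [TensorProduct.tmul_smul]
        rfl
    obtain ⟨n, hn, hnp⟩ := h2 _ h1
    have h3 : (1 : A ⧸ I) ⊗ₜ[A] (p - n) = 0 := by rw [TensorProduct.tmul_sub, hnp, sub_self]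
    have h4 : p - n ∈ I • (⊤ : Submodule A P) := by
      rw [← Submodule.Quotient.mk_eq_zero, ← quotTensorEquivQuotSMul_mk_one_tmul, h3, map_zero]
    rw [← sub_add_cancel p n, add_comm]
    exact Submodule.add_mem_sup hn h4
  exact ⟨⟨s.image g, FlatA.NilpotentFree.eq_top_of_isNilpotent I hI N key⟩⟩

theorem hasLifts_quot {A : Type u} [CommRing A] (I : Ideal A) (hI : IsNilpotent I) :
    HasLifts (Spec.map (CommRingCat.ofHom (algebraMap A (A ⧸ I)))) := by
  intro E' hE'
  obtain ⟨N, ⟨e⟩⟩ := (PerfA.QCohSerre.spec_iff (CommRingCat.of (A ⧸ I)) E').1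
    (PerfA.QCohEpi.isQCoh_of_isFinLocFree hE')
  obtain ⟨hfin, hproj⟩ := PerfC.TildeFLF.finProj_of_isFinLocFree (CommRingCat.of (A ⧸ I)) N
    (Dcoh.FinLocFree.isFinLocFree_of_iso e.symm hE')
  have hproj' : Module.Projective (A ⧸ I) N := hproj
  have hfin' : Module.Finite (A ⧸ I) N := hfin
  obtain ⟨P, hP1, hP2, hP3, ⟨ψ⟩⟩ := Sga5.NilLift.exists_projective_lift (A := A) I hI N
  have hf1 : Module.Finite (A ⧸ I) ((A ⧸ I) ⊗[A] P) := Module.Finite.equiv ψ.symm
  have hf2 : Module.Finite A P := finite_of_nilpotent I hI P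
  refine ⟨tilde (R := CommRingCat.of A) (ModuleCat.of A P), ?_, ⟨?_⟩⟩
  · have : Module.Finite A (ModuleCat.of A P) := hf2
    have : Module.Projective A (ModuleCat.of A P) := hP3
    exact PerfC.TildeProj.isFinLocFree_tilde A (ModuleCat.of A P)
  · exact Ega1.TildePullback.pullbackTildeIso A (A ⧸ I) P ≪≫
      (tilde.functor (CommRingCat.of (A ⧸ I))).mapIso (ψ.toModuleIso) ≪≫ e

theorem hasLifts_spec {R S : CommRingCat.{u}} (φ : R ⟶ S) (hφ : Function.Surjective φ.hom)
    (hI : IsNilpotent (RingHom.ker φ.hom)) : HasLifts (Spec.map φ) := by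
  let ε : (R ⧸ RingHom.ker φ.hom) ≃+* S := RingHom.quotientKerEquivOfSurjective hφ
  let q : R ⟶ CommRingCat.of (R ⧸ RingHom.ker φ.hom) := CommRingCat.ofHom (algebraMap R _)
  have h1 : φ = q ≫ ε.toCommRingCatIso.hom := by
    ext x
    rfl
  rw [h1, Spec.map_comp]
  exact (hasLifts_of_isIso _).comp (hasLifts_quot _ hI)

/-- Finite locally free modules lift along closed immersions of affine schemes with nilpotent kernel. -/
theorem hasLifts_of_isAffine {X' X : Scheme.{u}} (f : X' ⟶ X) [IsClosedImmersion f] [IsAffine X]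
    (hI : IsNilpotent (RingHom.ker f.appTop.hom)) : HasLifts f := by
  have : IsAffine X' := isAffine_of_isAffineHom f
  have h1 : f = X'.isoSpec.hom ≫ Spec.map f.appTop ≫ X.isoSpec.inv := by
    rw [← Category.assoc, Iso.eq_comp_inv]
    exact (Scheme.isoSpec_hom_naturality f).symm
  have h2 : Function.Surjective f.appTop.hom := (IsClosedImmersion.isAffine_surjective_of_isAffine f).2
  have h3 : HasLifts (X'.isoSpec.hom ≫ Spec.map f.appTop ≫ X.isoSpec.inv) :=
    (hasLifts_of_isIso _).comp ((hasLifts_spec f.appTop h2 hI).comp (hasLifts_of_isIso _))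
  rw [h1]
  exact h3

/-- The kernel of a surjective closed immersion into a Noetherian affine scheme is nilpotent. -/
theorem isNilpotent_ker {X' X : Scheme.{u}} (f : X' ⟶ X) [IsClosedImmersion f] [Surjective f] [IsAffine X]
    [IsNoetherian X] : IsNilpotent (RingHom.ker f.appTop.hom) := by
  have : IsAffine X' := isAffine_of_isAffineHom f
  have hN : IsNoetherianRing Γ(X, ⊤) := IsLocallyNoetherian.component_noetherian ⟨⊤, isAffineOpen_top X⟩
  refine (Ideal.FG.isNilpotent_iff_le_nilradical (IsNoetherian.noetherian _)).2 ?_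
  intro a ha
  rw [mem_nilradical]
  have h1 : X'.basicOpen (f.appTop.hom a) = ⊥ := by
    rw [RingHom.mem_ker.1 ha, Scheme.basicOpen_zero]
  have h2 : f ⁻¹ᵁ (X.basicOpen a) = ⊥ := by
    rw [Scheme.preimage_basicOpen_top]
    exact h1
  have h3 : X.basicOpen a = ⊥ := by
    rw [eq_bot_iff]
    intro x hx
    obtain ⟨y, rfl⟩ := f.surjective x
    have : y ∈ f ⁻¹ᵁ (X.basicOpen a) := hx
    rw [h2] at this
    exact this
  exact (Scheme.isNilpotent_iff_basicOpen_eq_bot a).2 h3

theorem hasLifts_of_noetherian {X' X : Scheme.{u}} (f : X' ⟶ X) [IsClosedImmersion f] [Surjective f] [IsAffine X]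
    [IsNoetherian X] : HasLifts f := hasLifts_of_isAffine f (isNilpotent_ker f)

end K783.LiftAff
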