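import Groth.Agent.PerfC.ExtOpen
import Groth.Agent.PerfC.PullRestrict
import Groth.Agent.PerfA.Restrict
import Groth.Agent.Dcoh.FinLocFree
import Groth.Agent.ResProp.K783.LiftAff

/-!
# Gluing lifts of finite locally free modules

`Good f κ` for `κ : K ⟶ F` on `X` and `f : X' ⟶ X`: the pullback `f^* κ` is an isomorphism.
`Lifts f F`: there is `κ : K ⟶ F` with `K` finite locally free and `f^* κ` an isomorphism.
-/

set_option autoImplicit false
universe u
open CategoryTheory CategoryTheory.Limits AlgebraicGeometry TopologicalSpace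

namespace K783.LiftGlue

open Scheme.Modules Groth.Agent Groth.Agent.VarietyB.ModGlue Groth.Agent.PerfC.RestrictComp
open Groth.Agent.PerfC.PullRestrict

variable {X' X : Scheme.{u}}

/-- `f^* κ` is an isomorphism. -/
def Good (f : X' ⟶ X) {K F : X.Modules} (κ : K ⟶ F) : Prop := IsIso ((Scheme.Modules.pullback f).map κ)

lemma Good.restrict {f : X' ⟶ X} {K F : X.Modules} {κ : K ⟶ F} (h : Good f κ) {U U' : Scheme.{u}} {j : U ⟶ X}
    {j' : U' ⟶ X'} {f' : U' ⟶ U} [IsOpenImmersion j] [IsOpenImmersion j'] (sq : j' ≫ f = f' ≫ j) :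
    Good f' ((restrictFunctor j).map κ) := by
  have : IsIso ((Scheme.Modules.pullback f).map κ) := h
  have h1 : IsIso ((Scheme.Modules.pullback f ⋙ restrictFunctor j').map κ) := by
    rw [Functor.comp_map]; infer_instance
  exact (NatIso.isIso_map_iff (pullbackSquare sq) κ).2 h1

lemma Good.of_cover {f : X' ⟶ X} {K F : X.Modules} {κ : K ⟶ F}
    (h : ∀ x : X', ∃ (U U' : Scheme.{u}) (j : U ⟶ X) (j' : U' ⟶ X') (f' : U' ⟶ U) (_ : IsOpenImmersion j)
      (_ : IsOpenImmersion j') (_ : j' ≫ f = f' ≫ j) (y : U'), j' y = x ∧ Good f' ((restrictFunctor j).map κ)) :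
    Good f κ := by
  refine PerfA.Restrict.isIso_of_restrict _ fun x => ?_
  obtain ⟨U, U', j, j', f', hj, hj', sq, y, hy, hg⟩ := h x
  refine ⟨U', j', hj', y, hy, ?_⟩
  exact (NatIso.isIso_map_iff (pullbackSquare sq) κ).1 hg

lemma Good.comp_iso {f : X' ⟶ X} {K F G : X.Modules} {κ : K ⟶ F} (h : Good f κ) (e : F ≅ G) :
    Good f (κ ≫ e.hom) := by
  have : IsIso ((Scheme.Modules.pullback f).map κ) := h
  unfold Good
  rw [Functor.map_comp]
  infer_instance

lemma Good.iso_comp {f : X' ⟶ X} {K F G : X.Modules} {κ : K ⟶ F} (h : Good f κ) (e : G ≅ K) :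
    Good f (e.hom ≫ κ) := by
  have : IsIso ((Scheme.Modules.pullback f).map κ) := h
  unfold Good
  rw [Functor.map_comp]
  infer_instance

lemma Good.isIso {f : X' ⟶ X} [IsIso f] {K F : X.Modules} {κ : K ⟶ F} (h : Good f κ) : IsIso κ := by
  have h1 : IsIso ((Scheme.Modules.pullback f).map κ) := h
  have h2 : IsIso ((Scheme.Modules.pullback f ⋙ Scheme.Modules.pullback (inv f)).map κ) := by
    rw [Functor.comp_map]; infer_instance
  let e : Scheme.Modules.pullback f ⋙ Scheme.Modules.pullback (inv f) ≅ 𝟭 _ :=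
    pullbackComp (inv f) f ≪≫ pullbackCongr (IsIso.inv_hom_id f) ≪≫ pullbackId X
  exact (NatIso.isIso_map_iff e κ).1 h2

/-- There is a finite locally free module `K` with a morphism `κ : K ⟶ F` such that `f^* κ` is an isomorphism. -/
def Lifts (f : X' ⟶ X) (F : X.Modules) : Prop :=
  ∃ (K : X.Modules) (κ : K ⟶ F), FlatMod.IsFinLocFree K ∧ Good f κ

lemma Lifts.of_iso {f : X' ⟶ X} {F G : X.Modules} (h : Lifts f F) (e : F ≅ G) : Lifts f G := by
  obtain ⟨K, κ, hK, hκ⟩ := h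
  exact ⟨K, κ ≫ e.hom, hK, hκ.comp_iso e⟩

/-- The lifting property over an open. -/
def LiftsOn (f : X' ⟶ X) (F : X.Modules) (U : X.Opens) : Prop := Lifts (f ∣_ U) (F.restrict U.ι)

lemma sq_homOfLE (f : X' ⟶ X) {U V : X.Opens} (h : U ≤ V) :
    X'.homOfLE ((Opens.map f.base).monotone h : f ⁻¹ᵁ U ≤ f ⁻¹ᵁ V) ≫ (f ∣_ V) = (f ∣_ U) ≫ X.homOfLE h := by
  rw [← cancel_mono V.ι]
  simp

theorem liftsOn_sup (f : X' ⟶ X) (F : X.Modules) (V W : X.Opens) (hV : LiftsOn f F V) (hW : LiftsOn f F W)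
    (hiso : IsIso (f ∣_ (V ⊓ W))) : LiftsOn f F (V ⊔ W) := by
  obtain ⟨K, κ, hK, hκ⟩ := hV
  obtain ⟨N, ν, hN, hν⟩ := hW
  let Y : Scheme.{u} := ((V ⊔ W : X.Opens) : Scheme.{u})
  let F' : Y.Modules := F.restrict (V ⊔ W).ι
  let u : (V : Scheme.{u}) ⟶ Y := X.homOfLE le_sup_left
  let v : (W : Scheme.{u}) ⟶ Y := X.homOfLE le_sup_right
  let w : ((V ⊓ W : X.Opens) : Scheme.{u}) ⟶ Y := X.homOfLE (inf_le_left.trans le_sup_left)
  let a : ((V ⊓ W : X.Opens) : Scheme.{u}) ⟶ V := X.homOfLE inf_le_left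
  let b : ((V ⊓ W : X.Opens) : Scheme.{u}) ⟶ W := X.homOfLE inf_le_right
  have H : IsOverlap u v w a b := isOverlap_sup V W
  have hcov : u.opensRange ⊔ v.opensRange = ⊤ := cover_sup V W
  let μ : K ⟶ F'.restrict u := κ ≫ (rc u (V ⊔ W).ι V.ι (by simp [u]) F).hom
  let ν' : N ⟶ F'.restrict v := ν ≫ (rc v (V ⊔ W).ι W.ι (by simp [v]) F).hom
  have hμ : Good (f ∣_ V) μ := hκ.comp_iso _
  have hν' : Good (f ∣_ W) ν' := hν.comp_iso _
  have hμa : IsIso ((restrictFunctor a).map μ) :=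
    (hμ.restrict (f' := f ∣_ (V ⊓ W)) (sq_homOfLE f inf_le_left)).isIso
  have hνb : IsIso ((restrictFunctor b).map ν') :=
    (hν'.restrict (f' := f ∣_ (V ⊓ W)) (sq_homOfLE f inf_le_right)).isIso
  let e : K.restrict a ≅ N.restrict b :=
    asIso ((restrictFunctor a).map μ) ≪≫ tau H F' ≪≫ (asIso ((restrictFunctor b).map ν')).symm
  have he : e.hom ≫ (restrictFunctor b).map ν' = (restrictFunctor a).map μ ≫ (tau H F').hom := by
    simp [e]
  obtain ⟨K', κ', eU, eV, h1, h2⟩ := PerfC.ExtOpen.exists_glue_over H hcov F' μ ν' e he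
  refine ⟨K', κ', ?_, ?_⟩
  · refine Dcoh.FinLocFree.isFinLocFree_of_local fun x => ?_
    have hx : x ∈ u.opensRange ⊔ v.opensRange := by rw [hcov]; trivial
    rcases hx with hx | hx
    · exact ⟨_, u, inferInstance, hx, Dcoh.FinLocFree.isFinLocFree_of_iso eU.symm hK⟩
    · exact ⟨_, v, inferInstance, hx, Dcoh.FinLocFree.isFinLocFree_of_iso eV.symm hN⟩
  · refine Good.of_cover fun x => ?_
    have hx : (f x.1) ∈ V ⊔ W := x.2
    rcases hx with hx | hx
    · refine ⟨_, _, u, X'.homOfLE ((Opens.map f.base).monotone le_sup_left), f ∣_ V, inferInstance,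
        inferInstance, sq_homOfLE f le_sup_left, ⟨x.1, hx⟩, ?_, ?_⟩
      · apply Subtype.ext
        simp
      · rw [← h1]
        exact hμ.iso_comp eU
    · refine ⟨_, _, v, X'.homOfLE ((Opens.map f.base).monotone le_sup_right), f ∣_ W, inferInstance,
        inferInstance, sq_homOfLE f le_sup_right, ⟨x.1, hx⟩, ?_, ?_⟩
      · apply Subtype.ext
        simp
      · rw [← h2]
        exact hν'.iso_comp eV

end K783.LiftGlue
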