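import Groth.Agent.ResProp.K783.LiftGlue
import Groth.Agent.CohqA.ClosedPush
import Groth.Agent.Dcoh.PushRestrict

/-!
# Lifting finite locally free modules along nil immersions which are isomorphisms off a disjoint union of
affines
-/

set_option autoImplicit false
universe u
open CategoryTheory CategoryTheory.Limits AlgebraicGeometry TopologicalSpace

namespace K783.LiftMain

open Scheme.Modules Groth.Agent Groth.Agent.PerfC.RestrictComp
open Groth.Agent.PerfC.PullRestrict K783.LiftAff K783.LiftGlue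

variable {X' X : Scheme.{u}}

theorem isIso_morphismRestrict_of_le (f : X' ⟶ X) {U V : X.Opens} (h : V ≤ U) (hU : IsIso (f ∣_ U)) :
    IsIso (f ∣_ V) := by
  have h1 : IsPullback (f ∣_ V) (f ⁻¹ᵁ V).ι V.ι f := isPullback_morphismRestrict f V
  have h2 : IsPullback (f ∣_ U) (f ⁻¹ᵁ U).ι U.ι f := isPullback_morphismRestrict f U
  have h3 : IsPullback (X'.homOfLE (show f ⁻¹ᵁ V ≤ f ⁻¹ᵁ U from fun x hx => h hx)) (f ∣_ V) (f ∣_ U)
      (X.homOfLE h) := by
    refine IsPullback.of_right ?_ ?_ h2.flip
    · simpa using h1.flip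
    · rw [← cancel_mono U.ι]
      simp
  exact MorphismProperty.of_isPullback (P := MorphismProperty.isomorphisms Scheme) h3 hU

theorem isIso_counit (i : X' ⟶ X) [IsClosedImmersion i] :
    IsIso (Scheme.Modules.pullbackPushforwardAdjunction i).counit := by
  have := CohqA.ClosedPush.full (i := i)
  have := CohqA.ClosedPush.faithful (i := i)
  infer_instance

/-- An isomorphism `f^* E ≅ E'` gives a good map `E ⟶ f_* E'`. -/
theorem lifts_of_iso (f : X' ⟶ X) [IsClosedImmersion f] {E : X.Modules} {E' : X'.Modules}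
    (hE : FlatMod.IsFinLocFree E) (e : (Scheme.Modules.pullback f).obj E ≅ E') :
    Lifts f ((Scheme.Modules.pushforward f).obj E') := by
  let adj := Scheme.Modules.pullbackPushforwardAdjunction f
  refine ⟨E, adj.homEquiv _ _ e.hom, hE, ?_⟩
  have h1 := isIso_counit f
  have h2 : IsIso (adj.counit.app E') := inferInstance
  have h3 : (Scheme.Modules.pullback f).map (adj.homEquiv _ _ e.hom) ≫ adj.counit.app E' = e.hom :=
    (adj.homEquiv_counit (X := E) (Y := E') (g := adj.homEquiv _ _ e.hom)).symm.trans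
      ((adj.homEquiv _ _).symm_apply_apply e.hom)
  have h4 : IsIso ((Scheme.Modules.pullback f).map (adj.homEquiv _ _ e.hom) ≫ adj.counit.app E') := by
    rw [h3]; infer_instance
  exact IsIso.of_isIso_comp_right _ (adj.counit.app E')

theorem exists_of_lifts (f : X' ⟶ X) [IsClosedImmersion f] {E' : X'.Modules}
    (h : Lifts f ((Scheme.Modules.pushforward f).obj E')) :
    ∃ E : X.Modules, FlatMod.IsFinLocFree E ∧ Nonempty ((Scheme.Modules.pullback f).obj E ≅ E') := by
  obtain ⟨K, κ, hK, hκ⟩ := h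
  have h1 := isIso_counit f
  have h2 : IsIso ((Scheme.Modules.pullback f).map κ) := hκ
  exact ⟨K, hK, ⟨asIso ((Scheme.Modules.pullback f).map κ) ≪≫
    (asIso ((Scheme.Modules.pullbackPushforwardAdjunction f).counit.app E'))⟩⟩

/-- If finite locally free modules lift along `f` over `U` then `f_* E'` has the lifting property over `U`. -/
theorem liftsOn_of_hasLifts (f : X' ⟶ X) [IsClosedImmersion f] (U : X.Opens) (h : HasLifts (f ∣_ U))
    {E' : X'.Modules} (hE' : FlatMod.IsFinLocFree E') :
    LiftsOn f ((Scheme.Modules.pushforward f).obj E') U := by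
  obtain ⟨E, hE, ⟨e⟩⟩ := h (E'.restrict (f ⁻¹ᵁ U).ι)
    (Dcoh.FinLocFree.isFinLocFree_restrict hE' (f ⁻¹ᵁ U).ι)
  have h1 := lifts_of_iso (f ∣_ U) hE e
  exact h1.of_iso ((Dcoh.PushRestrict.pushRestrictIsoOfIsPullback f (f ∣_ U) (f ⁻¹ᵁ U).ι U.ι
    (isPullback_morphismRestrict f U).flip).app E').symm

/-- From the open `⊤` to the whole scheme. -/
theorem lifts_of_liftsOn_top (f : X' ⟶ X) {F : X.Modules} (h : LiftsOn f F ⊤) : Lifts f F := by
  obtain ⟨K, κ, hK, hκ⟩ := h
  let t : X ⟶ ((⊤ : X.Opens) : Scheme.{u}) := X.topIso.inv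
  let t' : X' ⟶ ((f ⁻¹ᵁ ⊤ : X'.Opens) : Scheme.{u}) := X'.topIso.inv
  have ht : t ≫ (⊤ : X.Opens).ι = 𝟙 X := by simp [t]
  have ht' : t' ≫ (f ⁻¹ᵁ ⊤ : X'.Opens).ι = 𝟙 X' := by
    change X'.topIso.inv ≫ (⊤ : X'.Opens).ι = 𝟙 X'
    simp
  have sq : t' ≫ (f ∣_ ⊤) = f ≫ t := by
    rw [← cancel_mono (⊤ : X.Opens).ι, Category.assoc, Category.assoc, morphismRestrict_ι, ht,
      reassoc_of% ht', Category.comp_id]
  have : IsIso t' := inferInstanceAs (IsIso X'.topIso.inv)
  refine ⟨K.restrict t, (restrictFunctor t).map κ ≫ ((rc t (⊤ : X.Opens).ι (𝟙 X) ht F).symm ≪≫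
    (rid (𝟙 X) rfl F)).hom, Dcoh.FinLocFree.isFinLocFree_restrict hK t, ?_⟩
  exact (hκ.restrict sq).comp_iso _

/-- The main lifting statement. -/
theorem hasLifts_of_cover (f : X' ⟶ X) [IsClosedImmersion f] [Surjective f] [IsNoetherian X]
    (W : X.Opens) (hW : IsIso (f ∣_ W)) {ι : Type*} (s : Finset ι) (A : ι → X.Opens)
    (hA : ∀ i, IsAffineOpen (A i)) (hAW : ∀ i j, i ≠ j → A i ⊓ A j ≤ W) (hcov : W ⊔ s.sup A = ⊤) :
    HasLifts f := by
  classical
  intro E' hE'
  refine exists_of_lifts f (lifts_of_liftsOn_top f ?_)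
  rw [← hcov]
  clear hcov
  induction s using Finset.induction_on with
  | empty =>
    rw [Finset.sup_empty, sup_bot_eq]
    exact liftsOn_of_hasLifts f W (hasLifts_of_isIso _) hE'
  | insert i s hi ih =>
    rw [Finset.sup_insert, sup_left_comm, sup_comm]
    refine liftsOn_sup f _ _ _ ih ?_ (isIso_morphismRestrict_of_le f ?_ hW)
    · have : IsAffine (A i : Scheme.{u}) := hA i
      have : CompactSpace (A i : Scheme.{u}) := inferInstance
      have : IsLocallyNoetherian (A i : Scheme.{u}) := isLocallyNoetherian_of_isOpenImmersion (A i).ι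
      have : IsNoetherian (A i : Scheme.{u}) := {}
      have : Surjective (f ∣_ A i) := MorphismProperty.of_isPullback (isPullback_morphismRestrict f (A i)).flip ‹_›
      exact liftsOn_of_hasLifts f (A i) (hasLifts_of_noetherian _) hE'
    · intro x hx
      rcases hx.1 with h | h
      · exact h
      · obtain ⟨j, hj, hxj⟩ : ∃ j ∈ s, x ∈ A j := by
          have h' : x ∈ s.sup A := h
          clear hx h ih
          induction s using Finset.induction_on with
          | empty => exact absurd h' (by simp)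
          | insert k s hk ih' =>
            rw [Finset.sup_insert] at h'
            rcases h' with h' | h'
            · exact ⟨k, Finset.mem_insert_self _ _, h'⟩
            · obtain ⟨j, hj, hxj⟩ := ih' (fun h => hi (Finset.mem_insert_of_mem h)) h'
              exact ⟨j, Finset.mem_insert_of_mem hj, hxj⟩
        exact hAW j i (fun h => hi (h ▸ hj)) ⟨hxj, hx.2⟩

end K783.LiftMain
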