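import Groth.Agent.ResProp.K783.LiftMain
import Mathlib.AlgebraicGeometry.IdealSheaf.Subscheme

/-!
# The open `V`: adding to `W` a dense disjoint union of affines of the complement
-/

set_option autoImplicit false
universe u
open CategoryTheory CategoryTheory.Limits AlgebraicGeometry TopologicalSpace

namespace K783.LiftTop

open K783.LiftAff K783.LiftMain

variable {X : Scheme.{u}}

/-- A closed subset of a Noetherian scheme is a finite union of incomparable irreducible closed subsets. -/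
theorem exists_finset_maximal {α : Type*} [TopologicalSpace α] [NoetherianSpace α] (Y : Closeds α) :
    ∃ S : Finset (Closeds α), (∀ t ∈ S, IsIrreducible (t : Set α)) ∧
      (∀ t ∈ S, ∀ t' ∈ S, t ≤ t' → t = t') ∧ Y = S.sup id := by
  classical
  obtain ⟨S, hS, hY⟩ := NoetherianSpace.exists_finset_irreducible Y
  refine ⟨S.filter fun t => ∀ t' ∈ S, t ≤ t' → t = t', fun t ht => hS ⟨t, (Finset.mem_filter.1 ht).1⟩,
    fun t ht t' ht' h => (Finset.mem_filter.1 ht).2 t' (Finset.mem_filter.1 ht').1 h, ?_⟩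
  rw [hY]
  apply le_antisymm
  · refine Finset.sup_le fun t ht => ?_
    obtain ⟨m, hm, hmax⟩ := S.exists_le_maximal ht
    have hmS : m ∈ S.filter fun t => ∀ t' ∈ S, t ≤ t' → t = t' :=
      Finset.mem_filter.2 ⟨hmax.prop, fun t' ht' h => le_antisymm h (hmax.le_of_ge ht' h)⟩
    exact hm.trans (Finset.le_sup (f := id) hmS)
  · exact Finset.sup_mono (Finset.filter_subset _ _)

/-- A family of affine opens, pairwise disjoint on the closed set `Wᶜ`, whose union is dense in `Wᶜ`. -/
theorem exists_family [IsNoetherian X] (W : X.Opens) :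
    ∃ (S : Finset (Closeds X)) (A : Closeds X → X.Opens), (∀ i, IsAffineOpen (A i)) ∧
      (∀ i j, i ≠ j → A i ⊓ A j ≤ W) ∧
      (W : Set X)ᶜ ⊆ closure ((⋃ i ∈ S, (A i : Set X)) ∩ (W : Set X)ᶜ) := by
  classical
  obtain ⟨S, hirr, hmax, hY⟩ := exists_finset_maximal (⟨(W : Set X)ᶜ, W.2.isClosed_compl⟩ : Closeds X)
  have hcov : (W : Set X)ᶜ = ⋃ t ∈ S, (t : Set X) := by
    have := congrArg (fun Z : Closeds X => (Z : Set X)) hY
    simpa [Closeds.coe_finset_sup] using this
  -- choice of the affine neighbourhoods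
  have hex : ∀ t : Closeds X, ∃ A : X.Opens, IsAffineOpen A ∧ (t ∈ S → (∀ t' ∈ S, t' ≠ t → ∀ x ∈ A, x ∉ t') ∧
      ∃ η ∈ A, closure {η} = (t : Set X)) ∧ (t ∉ S → A = ⊥) := by
    intro t
    by_cases ht : t ∈ S
    · let η := (hirr t ht).genericPoint
      have hη : closure {η} = (t : Set X) :=
        (hirr t ht).genericPoint_closure_eq.trans (IsClosed.closure_eq t.2)
      let C : Closeds X := (S.erase t).sup id
      have hC : (C : Set X) = ⋃ t' ∈ S.erase t, (t' : Set X) := by
        simp [C, Closeds.coe_finset_sup]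
      let U : X.Opens := ⟨(C : Set X)ᶜ, C.2.isOpen_compl⟩
      have hηU : η ∈ U := by
        intro h
        rw [hC] at h
        obtain ⟨t', ht'⟩ := Set.mem_iUnion.1 h
        obtain ⟨ht'S, hηt'⟩ := Set.mem_iUnion.1 ht'
        have h1 : t ≤ t' := by
          have : closure {η} ⊆ (t' : Set X) := t'.2.closure_subset_iff.2 (Set.singleton_subset_iff.2 hηt')
          rw [hη] at this
          exact this
        exact (Finset.mem_erase.1 ht'S).1 (hmax t ht t' (Finset.mem_erase.1 ht'S).2 h1).symm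
      obtain ⟨A, hA, hηA, hAU⟩ := exists_isAffineOpen_mem_and_subset hηU
      refine ⟨A, hA, fun _ => ⟨?_, η, hηA, hη⟩, fun h => absurd ht h⟩
      intro t' ht' h x hxA hxt'
      refine hAU hxA ?_
      change x ∈ (C : Set X)
      rw [hC]
      exact Set.mem_iUnion.2 ⟨t', Set.mem_iUnion.2 ⟨Finset.mem_erase.2 ⟨h, ht'⟩, hxt'⟩⟩
    · exact ⟨⊥, isAffineOpen_bot X, fun h => absurd h ht, fun _ => rfl⟩
  choose A hA hAt hAbot using hex
  refine ⟨S, A, hA, ?_, ?_⟩
  · intro i j hij x hx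
    by_contra hxW
    by_cases hi : i ∈ S
    · by_cases hj : j ∈ S
      · have hxW' : x ∈ (W : Set X)ᶜ := hxW
        rw [hcov] at hxW'
        obtain ⟨t', ht'S, hxt'⟩ := Set.mem_iUnion₂.1 hxW'
        have h1 : t' = i := by
          by_contra h
          exact (hAt i hi).1 t' ht'S h x hx.1 hxt'
        have h2 : t' = j := by
          by_contra h
          exact (hAt j hj).1 t' ht'S h x hx.2 hxt'
        exact hij (h1.symm.trans h2)
      · rw [hAbot j hj] at hx
        exact hx.2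
    · rw [hAbot i hi] at hx
      exact hx.1
  · rw [hcov]
    refine Set.iUnion₂_subset fun t ht => ?_
    obtain ⟨η, hηA, hη⟩ := (hAt t ht).2
    rw [← hη]
    refine closure_mono (Set.singleton_subset_iff.2 ⟨?_, ?_⟩)
    · exact Set.mem_iUnion₂.2 ⟨t, ht, hηA⟩
    · have : η ∈ (t : Set X) := by rw [← hη]; exact subset_closure rfl
      exact Set.mem_iUnion₂.2 ⟨t, ht, this⟩

theorem isNoetherian_opens [IsNoetherian X] (V : X.Opens) : IsNoetherian (V : Scheme.{u}) := by
  have : CompactSpace (V : Scheme.{u}) := isCompact_iff_compactSpace.1 (NoetherianSpace.isCompact _)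
  have : IsLocallyNoetherian (V : Scheme.{u}) := isLocallyNoetherian_of_isOpenImmersion V.ι
  exact {}

/-- The reduced closed subscheme of `V` on a closed subset which is a disjoint union of closed subsets of
affines is affine. -/
theorem isAffine_subscheme {V : Scheme.{u}} (W : V.Opens) {ι : Type*} (S : Finset ι) (A : ι → V.Opens)
    (hA : ∀ i, IsAffineOpen (A i)) (hAW : ∀ i j, i ≠ j → A i ⊓ A j ≤ W) (hcov : W ⊔ S.sup A = ⊤)
    {T : Scheme.{u}} (g : T ⟶ V) [IsClosedImmersion g] (hg : Set.range g ⊆ (W : Set V)ᶜ) : IsAffine T := by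
  have h1 : IsAffineOpen (⨆ i ∈ (S : Set ι), g ⁻¹ᵁ (A i)) := by
    refine IsAffineOpen.biSup_of_disjoint S.finite_toSet (fun i _ => (hA i).preimage g) ?_
    intro i _ j _ hij
    refine disjoint_iff_inf_le.2 fun x hx => ?_
    exact hg ⟨x, rfl⟩ (hAW i j hij ⟨hx.1, hx.2⟩)
  have h2 : (⨆ i ∈ (S : Set ι), g ⁻¹ᵁ (A i)) = ⊤ := by
    rw [eq_top_iff]
    rintro x -
    have hx : g x ∈ W ⊔ S.sup A := by rw [hcov]; trivial
    rcases hx with hx | hx
    · exact absurd hx (hg ⟨x, rfl⟩)
    · have hx' : g x ∈ S.sup A := hx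
      rw [Finset.sup_eq_iSup] at hx'
      obtain ⟨i, hi⟩ := Opens.mem_iSup.1 hx'
      obtain ⟨hiS, hxi⟩ := Opens.mem_iSup.1 hi
      exact Opens.mem_iSup.2 ⟨i, Opens.mem_iSup.2 ⟨hiS, hxi⟩⟩
  rw [h2] at h1
  exact IsAffine.of_isIso (T.topIso.inv : T ⟶ ((⊤ : T.Opens) : Scheme.{u})) (h := h1)

/-- The geometric part: the open `V`, with the lifting property over it. -/
theorem exists_open {X' X : Scheme.{u}} [IsNoetherian X] (f : X' ⟶ X) [IsClosedImmersion f] [Surjective f]
    (W : X.Opens) (hW : IsIso (f ∣_ W)) :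
    ∃ V : X.Opens, W ≤ V ∧ (W : Set X)ᶜ ⊆ closure ((V : Set X) ∩ (W : Set X)ᶜ) ∧
      (∃ (T : Scheme.{u}) (g : T ⟶ (V : Scheme.{u})), IsClosedImmersion g ∧ IsAffine T ∧
        Set.range (g ≫ V.ι).base = (V : Set X) ∩ (W : Set X)ᶜ) ∧ HasLifts (f ∣_ V) := by
  obtain ⟨S, A, hA, hAW, hdense⟩ := exists_family W
  let V : X.Opens := W ⊔ S.sup A
  have hAV : ∀ i ∈ S, A i ≤ V := fun i hi => (Finset.le_sup (f := A) hi).trans le_sup_right
  let W' : (V : Scheme.{u}).Opens := V.ι ⁻¹ᵁ W
  classical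
  let A' : Closeds X → (V : Scheme.{u}).Opens := fun i => if i ∈ S then V.ι ⁻¹ᵁ (A i) else ⊥
  have hA' : ∀ i, IsAffineOpen (A' i) := by
    intro i
    by_cases hi : i ∈ S
    · simp only [A', if_pos hi]
      exact (hA i).preimage_of_isOpenImmersion V.ι (by rw [Scheme.Opens.opensRange_ι]; exact hAV i hi)
    · simp only [A', if_neg hi]
      exact isAffineOpen_bot _
  have hA'le : ∀ i, A' i ≤ V.ι ⁻¹ᵁ (A i) := by
    intro i
    by_cases hi : i ∈ S
    · simp only [A', if_pos hi]; exact le_rfl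
    · simp only [A', if_neg hi]; exact bot_le
  have hAW' : ∀ i j, i ≠ j → A' i ⊓ A' j ≤ W' := fun i j hij x hx =>
    hAW i j hij ⟨hA'le i hx.1, hA'le j hx.2⟩
  have hcov' : W' ⊔ S.sup A' = ⊤ := by
    rw [eq_top_iff]
    rintro x -
    have hx : V.ι x ∈ W ⊔ S.sup A := x.2
    rcases hx with hx | hx
    · exact Or.inl hx
    · right
      have hx' : V.ι x ∈ S.sup A := hx
      rw [Finset.sup_eq_iSup] at hx'
      obtain ⟨i, hi⟩ := Opens.mem_iSup.1 hx'
      obtain ⟨hiS, hxi⟩ := Opens.mem_iSup.1 hi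
      refine (Finset.le_sup (f := A') hiS : A' i ≤ _) ?_
      simp only [A', if_pos hiS]
      exact hxi
  refine ⟨V, le_sup_left, ?_, ?_, ?_⟩
  · refine hdense.trans (closure_mono (Set.inter_subset_inter_left _ ?_))
    exact Set.iUnion₂_subset fun i hi => hAV i hi
  · let Z : Closeds (V : Scheme.{u}) := ⟨(W' : Set (V : Scheme.{u}))ᶜ, W'.2.isClosed_compl⟩
    let I := Scheme.IdealSheafData.vanishingIdeal Z
    have hr : Set.range I.subschemeι = (W' : Set (V : Scheme.{u}))ᶜ := by
      rw [Scheme.IdealSheafData.range_subschemeι, Scheme.IdealSheafData.coe_support_vanishingIdeal]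
      rfl
    refine ⟨I.subscheme, I.subschemeι, inferInstance, isAffine_subscheme W' S A' hA' hAW' hcov' _ hr.le, ?_⟩
    rw [Scheme.Hom.comp_base, TopCat.coe_comp, Set.range_comp, hr]
    ext x
    constructor
    · rintro ⟨y, hy, rfl⟩
      exact ⟨y.2, hy⟩
    · rintro ⟨hx, hxW⟩
      exact ⟨⟨x, hx⟩, hxW, rfl⟩
  · have hN := isNoetherian_opens V
    have hs : Surjective (f ∣_ V) := MorphismProperty.of_isPullback (isPullback_morphismRestrict f V).flip ‹_›
    refine hasLifts_of_cover (f ∣_ V) W' ?_ S A' hA' hAW' hcov'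
    have h1 : IsIso (f ∣_ (V.ι ''ᵁ W')) := isIso_morphismRestrict_of_le f (by
      rw [Scheme.Hom.image_preimage_eq_opensRange_inf, Scheme.Opens.opensRange_ι]
      exact inf_le_right) hW
    exact ((MorphismProperty.isomorphisms Scheme.{u}).arrow_mk_iso_iff (morphismRestrictRestrict f V W')).2 h1

end K783.LiftTop
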