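import Groth.Agent.S1691
import Groth.Agent.Dual.H375.Hartogs
import Groth.Agent.Divis.ReflexAlg
import Groth.Agent.Divis.StalkMod
import Groth.Agent.Fga.DimCut
import Groth.Agent.Sga2lef.H102.DepthAlg
import Groth.Agent.Dcoh.StalkRes
import Groth.Agent.Dcoh.FinLocFree
import Groth.Agent.Ega2.QCohLocal
import Groth.Agent.PerfA.CohSerre

/-!
# Extending a resolution across a regular closed point of a surface
-/

set_option autoImplicit false
universe u

open CategoryTheory CategoryTheory.Limits AlgebraicGeometry Opposite TopologicalSpace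

namespace K783.PunctExt

open Scheme.Modules Groth.Agent

variable {X : Scheme.{u}}

theorem isFinLocFree_of_free_stalks [IsLocallyNoetherian X] {M : X.Modules} (hM : Coh.IsCoh M)
    (h : ∀ x : X, Module.Free (X.presheaf.stalk x) (M.presheaf.stalk x)) : FlatMod.IsFinLocFree M := fun x => by
  obtain ⟨V, n, hx, e⟩ := Divis.StalkMod.exists_free_nhd hM x (h x)
  exact ⟨V, n, hx, e⟩

/-- A finite locally free module on `X ∖ {z}`, `z` a closed point with regular local ring of dimension 2, mapping to
the restriction of a coherent module `F` which is finite locally free near `z`, extends with the map. -/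
theorem exists_extend [IsIntegral X] [IsLocallyNoetherian X] (z : X)
    (hreg : IsRegularLocalRing (X.presheaf.stalk z)) (hdim : ringKrullDim (X.presheaf.stalk z) = 2)
    (F : X.Modules) (hF : Coh.IsCoh F) (hFz : ∃ W : X.Opens, z ∈ W ∧ FlatMod.IsFinLocFree (F.restrict W.ι))
    (U : X.Opens) (hU : (U : Set X) = {z}ᶜ) (E : (↑U : Scheme.{u}).Modules) (π : E ⟶ F.restrict U.ι)
    (hE : FlatMod.IsFinLocFree E) (hπ : Epi π) :
    ∃ (E' : X.Modules) (β : E' ⟶ F), FlatMod.IsFinLocFree E' ∧ Epi ((restrictFunctor U.ι).map β) := by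
  have hout : ∀ x : X, x ∉ U → x = z := fun x hx => by
    by_contra hne
    exact hx (by
      have : x ∈ (U : Set X) := by rw [hU]; exact hne
      exact this)
  have hdim' : ringKrullDim (X.presheaf.stalk z) = (2 : ℕ) := hdim
  have hdepth : ∀ x : X, x ∉ U → (2 : ℕ∞) ≤ LocCoh.depth (X.presheaf.stalk x) (X.presheaf.stalk x) := by
    intro x hx
    obtain rfl := hout x hx
    rw [Sga2lef.H102.DepthAlg.depth_self hdim']
    exact le_rfl
  have hdepthF : ∀ x : X, x ∉ U → (2 : ℕ∞) ≤ LocCoh.depth (X.presheaf.stalk x) (F.presheaf.stalk x) := by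
    intro x hx
    obtain rfl := hout x hx
    obtain ⟨W, hxW, hW⟩ := hFz
    have h1 := (Divis.StalkMod.finite_free_stalk (Ega2.QCohLocal.isQCoh_of_isFinLocFree hW) hW
      (⟨x, hxW⟩ : (W : Scheme.{u}))).2
    have h2 := (Dcoh.StalkRes.free_restrict_iff W.ι F (⟨x, hxW⟩ : (W : Scheme.{u}))).1 h1
    have h3 : Module.Free (X.presheaf.stalk x) (F.presheaf.stalk x) := h2
    have h4 := Divis.StalkMod.finite_stalk hF x
    exact Sga2lef.H102.DepthAlg.le_depth_of_free hdim' _
  have hEc : Coh.IsCoh E := PerfA.CohSerre.isCoh_of_isFinLocFree hE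
  have hEfree := fun x => Divis.StalkMod.finite_free_stalk hEc.1 hE x
  have hErefl : ∀ x : ↥(U : Scheme.{u}), Module.IsReflexive ((U : Scheme.{u}).presheaf.stalk x) (E.presheaf.stalk x) :=
    fun x => by
      have := (hEfree x).1
      have := (hEfree x).2
      infer_instance
  obtain ⟨hc, hr⟩ := (Groth.Agent.S1691.result X U hdepth).2 E hEc hErefl
  let E' : X.Modules := (Scheme.Modules.pushforward U.ι).obj E
  let e : E'.restrict U.ι ≅ E := asIso ((Scheme.Modules.restrictAdjunction U.ι).counit.app E)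
  have hfree : ∀ x : X, Module.Free (X.presheaf.stalk x) (E'.presheaf.stalk x) := by
    intro x
    by_cases hx : x ∈ U
    · have h1 : FlatMod.IsFinLocFree (E'.restrict U.ι) := Dcoh.FinLocFree.isFinLocFree_of_iso e.symm hE
      have h2 := (Divis.StalkMod.finite_free_stalk (Ega2.QCohLocal.isQCoh_of_isFinLocFree h1) h1
        (⟨x, hx⟩ : (U : Scheme.{u}))).2
      exact (Dcoh.StalkRes.free_restrict_iff U.ι E' (⟨x, hx⟩ : (U : Scheme.{u}))).1 h2
    · obtain rfl := hout x hx
      have h3 := Divis.StalkMod.finite_stalk hc x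
      have h4 := hr x
      exact Divis.ReflexAlg.free_of_isReflexive hdim.le _
  obtain ⟨β, hβ⟩ := Dual.H375.Hartogs.exists_extend (L := E') hF U hdepthF (e.hom ≫ π)
  refine ⟨E', β, isFinLocFree_of_free_stalks hc hfree, ?_⟩
  rw [hβ]
  infer_instance

end K783.PunctExt
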