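import Mathlib.CategoryTheory.Limits.Preserves.Limits
import Mathlib.CategoryTheory.Limits.Preserves.Shapes.Products
import Mathlib.CategoryTheory.Limits.Shapes.Products
import Mathlib.CategoryTheory.Limits.Constructions.EpiMono
import Mathlib.CategoryTheory.ObjectProperty.Basic

/-!
# Quotients of direct sums of objects with a given property
-/

set_option autoImplicit false
universe w v v' u u'
open CategoryTheory CategoryTheory.Limits

namespace K783.QuotSum

variable {C : Type u} [Category.{v} C] {D : Type u'} [Category.{v'} D]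
  [HasCoproducts.{w} C] [HasCoproducts.{w} D]

/-- `M` is a quotient of a direct sum (indexed by a type in `Type w`) of objects with the property `P`. -/
def QS (P : C → Prop) (M : C) : Prop :=
  ∃ (κ : Type w) (E : κ → C) (π : (∐ E) ⟶ M), (∀ k, P (E k)) ∧ Epi π

variable {P : C → Prop}

lemma QS.of_epi {M N : C} (h : QS.{w} P M) (p : M ⟶ N) [Epi p] : QS.{w} P N := by
  obtain ⟨κ, E, π, hE, hπ⟩ := h
  exact ⟨κ, E, π ≫ p, hE, epi_comp _ _⟩

lemma QS.of_mem {M : C} (h : P M) : QS.{w} P M := by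
  refine ⟨PUnit.{w + 1}, fun _ => M, Sigma.desc fun _ => 𝟙 M, fun _ => h, ?_⟩
  have : IsSplitEpi (Sigma.desc fun _ : PUnit.{w + 1} => 𝟙 M) :=
    ⟨⟨⟨Sigma.ι (fun _ : PUnit.{w + 1} => M) ⟨⟩, by simp⟩⟩⟩
  infer_instance

lemma QS.mono {Q : C → Prop} {M : C} (h : QS.{w} P M) (hPQ : ∀ E, P E → Q E) : QS.{w} Q M := by
  obtain ⟨κ, E, π, hE, hπ⟩ := h
  exact ⟨κ, E, π, fun k => hPQ _ (hE k), hπ⟩

lemma QS.sigma {J : Type w} (M : J → C) (h : ∀ j, QS.{w} P (M j)) : QS.{w} P (∐ M) := by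
  choose κ E π hE hπ using h
  let p : (∐ fun x : (Σ j, κ j) => E x.1 x.2) ⟶ ∐ M :=
    Sigma.desc fun x => Sigma.ι (E x.1) x.2 ≫ π x.1 ≫ Sigma.ι M x.1
  refine ⟨Σ j, κ j, fun x => E x.1 x.2, p, fun x => hE _ _, ⟨fun {Z} g h hgh => ?_⟩⟩
  refine Sigma.hom_ext _ _ fun j => ?_
  rw [← cancel_epi (π j)]
  refine Sigma.hom_ext _ _ fun k => ?_
  have h1 := congrArg (fun t => Sigma.ι (fun x : (Σ j, κ j) => E x.1 x.2) ⟨j, k⟩ ≫ t) hgh
  simpa [p] using h1

/-- If all members of `P` are quotients of sums of members of `Q`, so are the quotients of sums of members of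
`P`. -/
lemma QS.trans {Q : C → Prop} {M : C} (h : QS.{w} P M) (hPQ : ∀ E, P E → QS.{w} Q E) : QS.{w} Q M := by
  obtain ⟨κ, E, π, hE, hπ⟩ := h
  exact (QS.sigma E fun k => hPQ _ (hE k)).of_epi π

lemma QS.map {Q : D → Prop} {M : C} (h : QS.{w} P M) (F : C ⥤ D) [∀ κ : Type w, PreservesColimitsOfShape (Discrete κ) F]
    [F.PreservesEpimorphisms] (hPQ : ∀ E, P E → Q (F.obj E)) : QS.{w} Q (F.obj M) := by
  obtain ⟨κ, E, π, hE, hπ⟩ := h
  refine ⟨κ, fun k => F.obj (E k), (PreservesCoproduct.iso F E).inv ≫ F.map π, fun k => hPQ _ (hE k), ?_⟩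
  infer_instance

end K783.QuotSum
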