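import Groth.Agent.Ega2.H278.AlgOf
import Groth.Agent.EGA2.K35.GammaIso
import Groth.Agent.EGA2.K36.SymAlg
import Groth.Agent.Sga67.QCohEpi

/-!
# Closed immersions into relative spectra

For `f : Y ⟶ X` affine and a quasi-coherent algebra `B` on `X`:
* `exists_closedImmersion`: an algebra map `ψ : B ⟶ f_* O_Y` which is surjective over the members of an affine open
  cover gives a closed immersion `Y ⟶ Spec B` over `X`.
* `exists_surjective`: conversely.
-/

set_option autoImplicit false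
universe u

open CategoryTheory CategoryTheory.Limits AlgebraicGeometry Opposite TopologicalSpace

namespace K783.SpecEmb

variable {X Y : Scheme.{u}} (f : Y ⟶ X) [IsAffineHom f] (B : RelSpec.QCAlg X)

/-- The morphism over `X` attached to an algebra map. -/
theorem exists_map (ψ : B ⟶ RelSpec.QCAlg.directImage f) :
    ∃ (c : Y ⟶ B.spec) (e : c ≫ B.π = f), AffAlg.algHom B.π f c e = B.gammaMap ≫ ψ.hom := by
  have hc : B.π.c ≫ B.gammaMap ≫ ψ.hom = f.c := by
    rw [← Category.assoc, B.π_c_gammaMap, ψ.comm]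
    rfl
  obtain ⟨⟨c, e⟩, hce⟩ := Groth.Agent.Ega2.H278.AlgOf.surjective B.π f ⟨B.gammaMap ≫ ψ.hom, hc⟩
  exact ⟨c, e, congrArg Subtype.val hce⟩

variable {f B}

theorem appLE_eq (c : Y ⟶ B.spec) (e : c ≫ B.π = f) (ψ : B ⟶ RelSpec.QCAlg.directImage f)
    (hc : AffAlg.algHom B.π f c e = B.gammaMap ≫ ψ.hom) (U : X.Opens) :
    c.appLE (B.π ⁻¹ᵁ U) (f ⁻¹ᵁ U) (Groth.Agent.Ega2.H278.AlgOf.preimage_le B.π f c e U) =
      B.gammaMap.app (op U) ≫ ψ.hom.app (op U) := by
  rw [← Groth.Agent.Ega2.H278.AlgOf.algHom_app B.π f c e, hc]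
  rfl

theorem isClosedImmersion_of_surjective (c : Y ⟶ B.spec) (e : c ≫ B.π = f) {ι : Type*} (U : ι → X.Opens)
    (hU : ∀ i, IsAffineOpen (U i)) (hcov : ⨆ i, U i = ⊤)
    (h : ∀ i, Function.Surjective (c.app (B.π ⁻¹ᵁ U i)).hom) : IsClosedImmersion c := by
  rw [HasAffineProperty.iff_of_iSup_eq_top (P := @IsClosedImmersion)
    (fun i => (⟨B.π ⁻¹ᵁ U i, (hU i).preimage B.π⟩ : B.spec.affineOpens))
    (by
      have : (⨆ i, B.π ⁻¹ᵁ U i) = B.π ⁻¹ᵁ (⨆ i, U i) := (Scheme.Hom.preimage_iSup B.π U).symm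
      exact this.trans (by rw [hcov]; rfl))]
  intro i
  refine ⟨?_, ?_⟩
  · have h1 : c ⁻¹ᵁ (B.π ⁻¹ᵁ U i) = f ⁻¹ᵁ U i := by rw [← Scheme.Hom.comp_preimage, e]
    have h2 : IsAffineOpen (c ⁻¹ᵁ (B.π ⁻¹ᵁ U i)) := by rw [h1]; exact (hU i).preimage f
    exact h2
  · have h3 := morphismRestrict_appTop c (B.π ⁻¹ᵁ U i)
    have h4 : ∀ (W : B.spec.Opens) (_ : W = B.π ⁻¹ᵁ U i), Function.Surjective (c.app W).hom := by
      rintro _ rfl
      exact h i
    have h5 := h4 ((B.π ⁻¹ᵁ U i).ι ''ᵁ ⊤) (by simp)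
    rw [h3]
    have h6 : Function.Surjective (Y.presheaf.map (eqToHom (image_morphismRestrict_preimage c (B.π ⁻¹ᵁ U i) ⊤)).op).hom :=
      (ConcreteCategory.bijective_of_isIso _).2
    exact h6.comp h5

/-- An algebra map `B ⟶ f_* O_Y` surjective over an affine open cover gives a closed immersion `Y ⟶ Spec B`. -/
theorem exists_closedImmersion (ψ : B ⟶ RelSpec.QCAlg.directImage f) {ι : Type*} (U : ι → X.Opens)
    (hU : ∀ i, IsAffineOpen (U i)) (hcov : ⨆ i, U i = ⊤)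
    (h : ∀ i, Function.Surjective (ψ.hom.app (op (U i))).hom) :
    ∃ c : Y ⟶ B.spec, IsClosedImmersion c ∧ c ≫ B.π = f := by
  obtain ⟨c, e, hc⟩ := exists_map f B ψ
  refine ⟨c, isClosedImmersion_of_surjective c e U hU hcov fun i => ?_, e⟩
  have h1 := appLE_eq c e ψ hc (U i)
  have h2 : IsIso B.gammaMap := K35.GammaIso.isIso_gammaMap B
  have h3 : Function.Surjective (B.gammaMap.app (op (U i))).hom := (ConcreteCategory.bijective_of_isIso _).2
  have h4 : Function.Surjective (c.appLE (B.π ⁻¹ᵁ U i) (f ⁻¹ᵁ U i)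
      (Groth.Agent.Ega2.H278.AlgOf.preimage_le B.π f c e (U i))).hom := by
    rw [h1]
    exact (h i).comp h3
  have h5 : c ⁻¹ᵁ (B.π ⁻¹ᵁ U i) = f ⁻¹ᵁ U i := by rw [← Scheme.Hom.comp_preimage, e]
  intro y
  obtain ⟨x, hx⟩ := h4 (Y.presheaf.map (eqToHom h5.symm).op y)
  refine ⟨x, ?_⟩
  have h6 : Function.Injective (Y.presheaf.map (eqToHom h5.symm).op).hom :=
    (ConcreteCategory.bijective_of_isIso _).1
  apply h6
  rw [Scheme.Hom.appLE] at hx
  exact hx

/-- A closed immersion `Y ⟶ Spec B` over `X` comes from an algebra map `B ⟶ f_* O_Y` surjective over affine opens. -/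
theorem exists_surjective (c : Y ⟶ B.spec) [IsClosedImmersion c] (e : c ≫ B.π = f) :
    ∃ ψ : B ⟶ RelSpec.QCAlg.directImage f, ∀ U : X.Opens, IsAffineOpen U →
      Function.Surjective (ψ.hom.app (op U)).hom := by
  have h2 : IsIso B.gammaMap := K35.GammaIso.isIso_gammaMap B
  refine ⟨⟨inv B.gammaMap ≫ AffAlg.algHom B.π f c e, ?_⟩, ?_⟩
  · rw [← B.π_c_gammaMap, Category.assoc, IsIso.hom_inv_id_assoc]
    exact AffAlg.algHom_comm B.π f c e
  · intro U hU
    have h1 : (inv B.gammaMap ≫ AffAlg.algHom B.π f c e).app (op U) =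
        (inv B.gammaMap).app (op U) ≫ c.appLE (B.π ⁻¹ᵁ U) (f ⁻¹ᵁ U)
          (Groth.Agent.Ega2.H278.AlgOf.preimage_le B.π f c e U) := by
      rw [NatTrans.comp_app, Groth.Agent.Ega2.H278.AlgOf.algHom_app]
    change Function.Surjective ((inv B.gammaMap ≫ AffAlg.algHom B.π f c e).app (op U)).hom
    rw [h1]
    have h3 : Function.Surjective ((inv B.gammaMap).app (op U)).hom := (ConcreteCategory.bijective_of_isIso _).2
    have h5 : c ⁻¹ᵁ (B.π ⁻¹ᵁ U) = f ⁻¹ᵁ U := by rw [← Scheme.Hom.comp_preimage, e]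
    have h6 : Function.Surjective (c.app (B.π ⁻¹ᵁ U)).hom := c.app_surjective _ (hU.preimage B.π)
    have h7 : Function.Surjective (c.appLE (B.π ⁻¹ᵁ U) (f ⁻¹ᵁ U)
        (Groth.Agent.Ega2.H278.AlgOf.preimage_le B.π f c e U)).hom := by
      have h8 : Function.Surjective (Y.presheaf.map (eqToHom h5.symm).op).hom :=
        (ConcreteCategory.bijective_of_isIso _).2
      exact h8.comp h6
    exact h7.comp h3

end K783.SpecEmb
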