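import Groth.Agent.S0816
import Groth.Agent.PerfA.Restrict
import Groth.Agent.PerfB.PCLift
import Groth.Agent.Ega3B.DevQC
import Groth.Agent.Dcoh.FinLocFree
import Groth.Agent.Divis.StalkMod
import Groth.Agent.FormalB.BCExact
import Groth.Agent.PerfA.CohSerre
import Groth.Prelude.Def_PerfAux

/-!
# Coherent modules on a Noetherian scheme are quotients of coherent submodules of free modules
-/

set_option autoImplicit false
universe u
open CategoryTheory CategoryTheory.Limits AlgebraicGeometry TopologicalSpace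

namespace K783.TFCover

open Scheme.Modules Groth.Agent

variable {X : Scheme.{u}}

/-- A morphism of modules is an epimorphism if it is so on an open cover. -/
theorem epi_of_restrict {M N : X.Modules} (φ : M ⟶ N)
    (h : ∀ x : X, ∃ (U : Scheme.{u}) (j : U ⟶ X) (_ : IsOpenImmersion j) (y : U), j y = x ∧
      Epi ((restrictFunctor j).map φ)) : Epi φ := by
  rw [Preadditive.epi_iff_isZero_cokernel]
  refine PerfA.Restrict.isZero_of_restrict _ fun x => ?_
  obtain ⟨U, j, hj, y, hy, he⟩ := h x
  refine ⟨U, j, hj, y, hy, ?_⟩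
  exact ((Preadditive.epi_iff_isZero_cokernel _).1 he).of_iso (PreservesCokernel.iso (restrictFunctor j) φ)

/-- `M` embeds in a free module of finite rank (as a coherent module). -/
def Emb (M : X.Modules) : Prop :=
  Coh.IsCoh M ∧ ∃ (L : X.Modules) (i : M ⟶ L), Mono i ∧ FlatMod.IsFinLocFree L

lemma Emb.biprod [IsLocallyNoetherian X] {M N : X.Modules} (hM : Emb M) (hN : Emb N) : Emb (M ⊞ N) := by
  obtain ⟨hM, L, i, hi, hL⟩ := hM
  obtain ⟨hN, L', i', hi', hL'⟩ := hN
  exact ⟨Ega3B.DevQC.isCoh_biprod hM hN, L ⊞ L', biprod.map i i', inferInstance,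
    Dcoh.FinLocFree.isFinLocFree_biprod hL hL'⟩

open scoped ZeroObject in
lemma emb_zero : Emb (0 : X.Modules) :=
  ⟨PerfA.CohSerre.isCoh_of_isZero (isZero_zero _), 0, 𝟙 0, inferInstance,
    Dcoh.FinLocFree.isFinLocFree_of_isZero (isZero_zero _)⟩

/-- Locally around every point there is a coherent submodule of a free module with a map to `F` which is
surjective around the point. -/
theorem exists_local [IsLocallyNoetherian X] (F : X.Modules) (hF : Coh.IsCoh F) (x : X) :
    ∃ (V : X.Opens) (F' : X.Modules) (π : F' ⟶ F), x ∈ V ∧ Emb F' ∧ Epi ((restrictFunctor V.ι).map π) := by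
  obtain ⟨V, n, p, hx, hp⟩ := PerfB.PCLift.exists_epi_freeMod F hF.2 x
  have hfree : Coh.IsCoh (FlatMod.freeMod X n) := PerfA.CohSerre.isCoh_freeMod n
  obtain ⟨F', ι, φ', hι, hF', hiso, hφ⟩ := S0816.result X (FlatMod.freeMod X n) F hfree hF V
    ((Dcoh.FinLocFree.restrictFree V.ι n).inv ≫ p)
  refine ⟨V, F', φ', hx, ⟨hF', _, ι, hι, Dcoh.FinLocFree.isFinLocFree_freeMod X n⟩, ?_⟩
  rw [hφ]
  infer_instance

/-- A coherent module on a Noetherian scheme is a quotient of a coherent submodule of a finite locally free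
module. -/
theorem exists_epi [IsNoetherian X] (F : X.Modules) (hF : Coh.IsCoh F) :
    ∃ (F' : X.Modules) (π : F' ⟶ F), Emb F' ∧ Epi π := by
  choose V F' π hxV hemb hepi using exists_local F hF
  obtain ⟨s, hs⟩ := isCompact_univ.elim_finite_subcover (fun x : X => (V x : Set X)) (fun x => (V x).2)
    (fun x _ => Set.mem_iUnion.2 ⟨x, hxV x⟩)
  have key : ∀ s : Finset X, ∃ (F'' : X.Modules) (π' : F'' ⟶ F), Emb F'' ∧
      ∀ x ∈ s, Epi ((restrictFunctor (V x).ι).map π') := by
    classical
    intro s
    induction s using Finset.induction_on with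
    | empty => exact ⟨_, 0, emb_zero, fun x hx => absurd hx (Finset.notMem_empty x)⟩
    | insert a s ha ih =>
      obtain ⟨F'', π', h1, h2⟩ := ih
      refine ⟨F' a ⊞ F'', biprod.desc (π a) π', (hemb a).biprod h1, fun x hx => ?_⟩
      rcases Finset.mem_insert.1 hx with rfl | hx
      · have := hepi x
        refine epi_of_epi_fac (f := (restrictFunctor (V x).ι).map (biprod.inl : F' x ⟶ F' x ⊞ F''))
          (h := (restrictFunctor (V x).ι).map (π x)) ?_
        rw [← Functor.map_comp, biprod.inl_desc]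
      · have := h2 x hx
        refine epi_of_epi_fac (f := (restrictFunctor (V x).ι).map (biprod.inr : F'' ⟶ F' a ⊞ F''))
          (h := (restrictFunctor (V x).ι).map π') ?_
        rw [← Functor.map_comp, biprod.inr_desc]
  obtain ⟨F'', π', h1, h2⟩ := key s
  refine ⟨F'', π', h1, epi_of_restrict π' fun x => ?_⟩
  obtain ⟨y, hy⟩ := Set.mem_iUnion.1 (hs (Set.mem_univ x))
  obtain ⟨hys, hxy⟩ := Set.mem_iUnion.1 hy
  exact ⟨_, (V y).ι, inferInstance, ⟨x, hxy⟩, rfl, h2 y hys⟩

/-- A submodule of a finite locally free module on an integral scheme is torsion free. -/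
theorem noZeroSMulDivisors [IsIntegral X] {M : X.Modules} (h : Emb M) (x : X) :
    NoZeroSMulDivisors ↥(X.presheaf.stalk x) ↥(M.presheaf.stalk x) := by
  obtain ⟨hM, L, i, hi, hL⟩ := h
  obtain ⟨h1, h2⟩ := Divis.StalkMod.finite_free_stalk (PerfA.CohSerre.isCoh_of_isFinLocFree hL).1 hL x
  have hinj := FormalB.BC.stalk_injective_of_mono i x
  constructor
  intro c m hcm
  by_cases hc : c = 0
  · exact Or.inl hc
  · right
    apply hinj
    have h3 : Module.IsTorsionFree (X.presheaf.stalk x) (L.presheaf.stalk x) := inferInstance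
    have h4 := h3.isSMulRegular (IsRegular.of_ne_zero hc)
    rw [isSMulRegular_iff_right_eq_zero_of_smul] at h4
    have h5 := h4 (((Dcoh.Stalk.stalkF x).map i) m)
      (((((Dcoh.Stalk.stalkF x).map i).hom.map_smul c m).symm.trans (congrArg _ hcm)).trans (map_zero _))
    exact h5.trans (map_zero ((Dcoh.Stalk.stalkF x).map i).hom).symm

end K783.TFCover
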